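import Cfsg.Agent.Lib.Blau.Defs
import Cfsg.Agent.S0205

/-!
Package B3. The principal block of a simple group with a self-centralizing subgroup of order `p`.

`psi_eq`: exchange the sums, `sum_irr_sing`, `other_eq_zero`, `X_val` (`dvd_orderOf_pow`),
`sum_j_Y` with `y = 1`, `card_U`, `card_units_cast`.
`b3`: `|X| = 3`, `Xs D = {A, B}`; `a, b, m` the degrees of `A, B, Y`; `deg_eq`:
`ε m = 1 + δA a + δB b`; `a, b ≥ 2` (`eq_irrOne`). Take an involution `t` (odd order theorem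
`S0205`, see `SmallSimple.four_dvd`); `p` is odd as `3 ∣ p - 1`. `cmc t t x = 0`: if `x = s s'`
with involutions then `s x s⁻¹ = x⁻¹ ≠ x`, `s ∈ NN x \\ CC x`, `nu s` has order 2 in
`nuHom.range`, which has order 3 (`card_range_nuHom`). So with the integers
`α, β, τ = cv t A, cv t B, cv t (Y 1)` (`ratl_of_sq`, `cv_cast`): `cmc_reg` gives
`1 + δA α² / a + δB β² / b = ε τ² / m`, `reg_eq` gives `ε τ = 1 + δA α + δB β`, and
`|α| < a, |β| < b, |τ| < m` (`natAbs_cv_lt`). Signs: `(ε; δA, δB) = (+; -, -), (-; +, +)` contradict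
the degree equation. `(+; +, +)`: `(1 + α + β)² / (1 + a + b) = 1 + α² / a + β² / b` is the case of
equality in Cauchy-Schwarz, so `α = a`: `(1 + α²/a + β²/b)(1 + a + b) - (1 + α + β)² =
(α - a)²/a + (β - b)²/b + (α b - β a)²/(a b)`. `(-; +, -)`: the same with `1, a, m` against `b`.
`(+; +, -)`: with `s = τ - m, u = β - b ≠ 0`, `α - a = s + u`, `a = m + b - 1`:
`(s + u)² m b = a (s² b + u² m)`, whence
`(b (m - a) s + m b u)² = u² (m b a)`; so `m a b` is a rational square, hence a square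
(`Rat.isSquare_natCast_iff`, or `Int.pow_dvd_pow_iff`).
`k19`: `psi_eq` and `Psi.sum`: `6 C - ε N = 16` with `C = 1 + δA nA + δB nB`, `N = ∑ Ys, n`;
`Psi.deg`: `1 + nA a + nB b + N m + R = 256`, `R = ∑ others, n φ * dg φ`, each other degree is a
positive multiple of 19 (`other_deg`). `a ≡ δA, b ≡ δB, m ≡ 3 ε (mod 19)` (`X_deg`, `Y_deg`).
`ε = -1`: `C ≤ 1`, `N ≥ 10`, `m = 16`, `a + b = 17`, `a, b ≥ 18`. `ε = 1`: `C ≥ 3`,
`nA ≥ nB + 2`, `N ≥ 2`, `2 a + 2 m ≤ 255`, `a + 1 = m + b`, `m a b` a square: only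
`(m, b, a) = (22, 56, 77)` (write `m = 19 i + 3`, `b = 19 j + 18`, `interval_cases`). Then
`nA = 2, nB = 0, N = 2, R = 57`, so `∑ others, n φ ≤ 3`; `11 ∣ 22, 77`.
-/

set_option autoImplicit false

namespace CfsgLib.Blau

open Cfsg CfsgLib.Char CfsgLib.ChDeg CfsgLib.DefectOne CfsgLib.DefectOne.B43 CfsgLib.Tuan
  CfsgLib.LowDeg CfsgLib.LowD2 CfsgLib.FewSyl CfsgLib.ChTab Subgroup
open scoped ComplexConjugate MatrixGroups commutatorElement

theorem b3_cs {a b m α β τ : ℤ} (ha : 0 < a) (hb : 0 < b) (hα : |α| < a) (hm : m = 1 + a + b)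
    (hτ : τ = 1 + α + β) (h : a * b * m + α ^ 2 * b * m + β ^ 2 * a * m = τ ^ 2 * a * b) :
    False := by
  have h1 : b * (α - a) ^ 2 + a * (β - b) ^ 2 + (α * b - β * a) ^ 2 = 0 := by
    subst hm hτ
    linear_combination h
  have h2 : 0 < (α - a) ^ 2 := by
    have : α - a ≠ 0 := by
      have := le_abs_self α
      omega
    positivity
  have h3 : 0 < b * (α - a) ^ 2 := mul_pos hb h2
  have h4 : 0 ≤ a * (β - b) ^ 2 := by positivity
  have h5 : 0 ≤ (α * b - β * a) ^ 2 := by positivity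
  omega

theorem b3_sq {a b m : ℕ} {α β τ : ℤ} (hβ : |β| < b) (hm : (m : ℤ) = 1 + a - b)
    (hτ : τ = 1 + α - β)
    (h : (a : ℤ) * b * m + α ^ 2 * b * m - β ^ 2 * a * m = τ ^ 2 * a * b) :
    IsSquare (m * a * b) := by
  have hu : β - b ≠ 0 := by
    have := le_abs_self β
    omega
  have ha : (a : ℤ) = m + b - 1 := by omega
  have hα : α = τ + β - 1 := by omega
  have h1 : (b * (m - a) * (τ - m) + m * b * (β - b)) ^ 2 = (β - b) ^ 2 * (m * a * b) := by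
    rw [ha, hα] at h
    rw [ha]
    linear_combination (b * (1 - b) : ℤ) * h
  have h2 : (β - b) ∣ b * (m - a) * (τ - m) + m * b * (β - b) :=
    (Int.pow_dvd_pow_iff two_ne_zero).mp ⟨_, h1⟩
  obtain ⟨k, hk⟩ := h2
  rw [hk, mul_pow] at h1
  have h3 := mul_left_cancel₀ (pow_ne_zero 2 hu) h1
  refine ⟨k.natAbs, ?_⟩
  have : ((m * a * b : ℕ) : ℤ) = (k.natAbs * k.natAbs : ℕ) := by
    push_cast
    rw [← h3, abs_mul_abs_self, sq]
  exact_mod_cast this

theorem b3_arith {a b m : ℕ} {α β τ ε δ₁ δ₂ : ℤ} (ha : 0 < a) (hb : 0 < b) (hm : 0 < m)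
    (hα : |α| < a) (hβ : |β| < b) (hε : ε = 1 ∨ ε = -1) (h1 : δ₁ = 1 ∨ δ₁ = -1)
    (h2 : δ₂ = 1 ∨ δ₂ = -1) (hd : ε * m = 1 + δ₁ * a + δ₂ * b) (hr : ε * τ = 1 + δ₁ * α + δ₂ * β)
    (h : (a : ℤ) * b * m + δ₁ * α ^ 2 * b * m + δ₂ * β ^ 2 * a * m = ε * τ ^ 2 * a * b) :
    (δ₂ = -1 ∧ ((ε = 1 ∧ δ₁ = 1 ∧ IsSquare (m * a * b)) ∨ (ε = -1 ∧ δ₁ = -1))) ∨
      (δ₁ = -1 ∧ ((ε = 1 ∧ δ₂ = 1 ∧ IsSquare (m * b * a)) ∨ (ε = -1 ∧ δ₂ = -1))) := by
  have ha' : (0 : ℤ) < a := by exact_mod_cast ha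
  have hb' : (0 : ℤ) < b := by exact_mod_cast hb
  have hm' : (0 : ℤ) < m := by exact_mod_cast hm
  rcases hε with rfl | rfl <;> rcases h1 with rfl | rfl <;> rcases h2 with rfl | rfl
  · exact (b3_cs (m := m) (β := β) (τ := τ) ha' hb' hα (by omega) (by omega)
      (by linear_combination h)).elim
  · exact Or.inl ⟨rfl, Or.inl ⟨rfl, rfl, b3_sq (α := α) (τ := τ) hβ (by omega) (by omega)
      (by linear_combination h)⟩⟩
  · exact Or.inr ⟨rfl, Or.inl ⟨rfl, rfl, b3_sq (α := β) (τ := τ) hα (by omega) (by omega)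
      (by linear_combination h)⟩⟩
  · omega
  · omega
  · exact (b3_cs (m := b) (β := τ) (τ := β) ha' hm' hα (by omega) (by omega)
      (by linear_combination h)).elim
  · exact (b3_cs (m := a) (β := τ) (τ := α) hb' hm' hβ (by omega) (by omega)
      (by linear_combination h)).elim
  · exact Or.inl ⟨rfl, Or.inr ⟨rfl, rfl⟩⟩

theorem k19_arith {i j : ℕ} (h : 2 * i + j ≤ 5)
    (hs : IsSquare ((19 * i + 3) * (19 * (i + j + 1) + 1) * (19 * j + 18))) : i = 1 ∧ j = 2 := by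
  have hi : i ≤ 2 := by omega
  have hj : j ≤ 5 := by omega
  interval_cases i <;> interval_cases j <;> first | omega | (exfalso; revert hs; decide +kernel)

variable {G : Type*} [Group G] [Finite G] {p : ℕ} [hp : Fact p.Prime] {x : G} {ζ : ℂ}

omit [Finite G] in
theorem b3_hna [Nontrivial G] (hperf : commutator G = ⊤) : ∃ a b : G, a * b ≠ b * a := by
  by_contra h
  push Not at h
  have : commutator G = ⊥ := by
    rw [_root_.commutator, eq_bot_iff, commutator_le]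
    intro a _ b _
    rw [mem_bot, commutatorElement_eq_one_iff_mul_comm]
    exact h a b
  rw [hperf] at this
  exact top_ne_bot this

theorem sum_vv_sc (D : PrinData p x ζ) (hζ : IsPrimitiveRoot ζ p) (h : SC p x)
    (f : IrrCharacter G → ℤ) :
    ∑ φ, f φ * vv p x φ =
      ((p : ℤ) - 1) * ∑ χ ∈ D.X, D.δ χ * f χ - D.ε * ee x * ∑ θ ∈ Ys D, f θ := by
  rw [sum_irr_sing D h (fun φ => f φ * vv p x φ) fun χ h1 h2 => by
    rw [vv_dz h.syl (other_deg D h h1 h2), mul_zero], Finset.mul_sum, Finset.mul_sum,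
    sub_eq_add_neg, ← Finset.sum_neg_distrib]
  congr 1
  · exact Finset.sum_congr rfl fun χ hχ => by rw [vv_X D h.syl hχ]; ring
  · exact Finset.sum_congr rfl fun χ hχ => by rw [vv_Y D h.syl hζ hχ]; ring

theorem psi_eq (D : PrinData p x ζ) (hζ : IsPrimitiveRoot ζ p) (h : SC p x)
    (n : IrrCharacter G → ℕ) :
    ∑ j : (ZMod p)ˣ, ∑ φ, (n φ : ℂ) * (φ : G → ℂ) (x ^ (j : ZMod p).val) =
      (((p : ℤ) - 1) * ∑ χ ∈ D.X, D.δ χ * n χ - D.ε * ee x * ∑ θ ∈ Ys D, (n θ : ℤ) : ℤ) := by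
  rw [← sum_vv_sc D hζ h fun φ => (n φ : ℤ), Finset.sum_comm]
  push_cast
  refine Finset.sum_congr rfl fun φ _ => ?_
  rw [vv_cast h.syl, vC, Finset.mul_sum]

open scoped _root_.Classical in
theorem b3 [IsSimpleGroup G] (hperf : commutator G = ⊤) (D : PrinData p x ζ)
    (hζ : IsPrimitiveRoot ζ p) (h : SC p x) (he : ee x = 3) :
    ∃ A B : IrrCharacter G, A ≠ B ∧ Xs D = {A, B} ∧ D.δ B = -1 ∧
      ((D.ε = 1 ∧ D.δ A = 1 ∧ IsSquare (z0 D * dg A * dg B)) ∨ (D.ε = -1 ∧ D.δ A = -1)) := by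
  have hs := h.syl
  have hna := b3_hna hperf
  have hc : (Xs D).card = 2 := by have := card_Xs D hs; omega
  obtain ⟨A, B, hAB, hX⟩ := Finset.card_eq_two.mp hc
  have hA := (mem_Xs D).mp (hX ▸ Finset.mem_insert_self A {B})
  have hB := (mem_Xs D).mp
    (hX ▸ Finset.mem_insert_of_mem (Finset.mem_singleton_self B) : B ∈ Xs D)
  have hsum : ∀ {M : Type} [AddCommMonoid M] (f : IrrCharacter G → M),
      ∑ χ ∈ D.X, f χ = f (irrOne G) + (f A + f B) := fun f => by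
    rw [sum_X D f, hX, Finset.sum_pair hAB]
  have hp2 : p ≠ 2 := by
    rintro rfl
    have := ee_dvd hs
    rw [he] at this
    omega
  have hev : Even (Nat.card G) := by
    by_contra h0
    obtain ⟨a, b, hab⟩ := hna
    exact hab (IsSimpleGroup.comm_iff_isSolvable.2
      (Agent.S0205.result (Nat.not_even_iff_odd.1 h0)) a b)
  obtain ⟨t, ht⟩ := exists_prime_orderOf_dvd_card' 2 hev.two_dvd
  have ht2 : t * t = 1 := by rw [← sq, ← ht, pow_orderOf_eq_one]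
  have ht1 : t ≠ 1 := by rintro rfl; simp at ht
  have htp : ¬ p ∣ orderOf t := by
    rw [ht]
    exact fun h => hp2 ((Nat.prime_dvd_prime_iff_eq hp.out Nat.prime_two).mp h)
  have hR := ratl_of_sq ht2
  have hY : ∀ θ ∈ Ys D, cv t θ = cv t (D.Y 1) := fun θ hθ => by
    obtain ⟨a, rfl⟩ := (mem_Ys D).mp hθ
    exact cv_eq (by rw [Y_reg D a 1 htp, cv_cast hR])
  have hd : D.ε * z0 D = 1 + D.δ A * dg A + D.δ B * dg B := by
    rw [deg_eq D, hsum, D.δ_one, add_assoc]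
    congr 1
    rw [show charDegree (irrOne G : G → ℂ) = 1 from dg_one]
    rfl
  have hr : D.ε * cv t (D.Y 1) = 1 + D.δ A * cv t A + D.δ B * cv t B := by
    have := D.reg_eq 1 t htp
    rw [hsum, D.δ_one, ← cv_cast hR, ← cv_cast hR, ← cv_cast hR A, ← cv_cast hR B,
      cv_irrOne] at this
    rw [add_assoc]
    exact_mod_cast this
  have hpair := sum_pair_vv hs hp2 (by rw [he]; decide) ht2 ht2
  rw [sum_vv_sc D hζ h, hsum, D.δ_one, dg_one, cv_irrOne, Finset.sum_congr rfl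
    (g := fun _ => ((Nat.card G / z0 D : ℕ) : ℤ) * (cv t (D.Y 1) * cv t (D.Y 1)))
    fun θ hθ => by rw [dg_of_mem_Ys D hθ, hY θ hθ], Finset.sum_const, nsmul_eq_mul] at hpair
  have hcard : ((Ys D).card : ℤ) * ee x = p - 1 := by
    have := card_Ys_mul D
    rw [card_U D hs] at this
    rw [← Nat.cast_mul, this, Nat.cast_sub hp.out.one_le, Nat.cast_one]
  have e1 : (dg A : ℤ) * (Nat.card G / dg A : ℕ) = Nat.card G := by
    exact_mod_cast Nat.mul_div_cancel' (dg_dvd A)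
  have e2 : (dg B : ℤ) * (Nat.card G / dg B : ℕ) = Nat.card G := by
    exact_mod_cast Nat.mul_div_cancel' (dg_dvd B)
  have e3 : (z0 D : ℤ) * (Nat.card G / z0 D : ℕ) = Nat.card G := by
    exact_mod_cast Nat.mul_div_cancel' (z0_dvd_card D)
  rw [Nat.div_one] at hpair
  generalize ((Nat.card G / dg A : ℕ) : ℤ) = a' at *
  generalize ((Nat.card G / dg B : ℕ) : ℤ) = b' at *
  generalize ((Nat.card G / z0 D : ℕ) : ℤ) = m' at *
  have hN : (Nat.card G : ℤ) ≠ 0 := by exact_mod_cast Nat.card_pos.ne'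
  have hp1 : (p : ℤ) - 1 ≠ 0 := by have := hp.out.two_le; omega
  have h1 : (Nat.card G : ℤ) + D.δ A * a' * cv t A ^ 2 + D.δ B * b' * cv t B ^ 2 =
      D.ε * m' * cv t (D.Y 1) ^ 2 := by
    apply mul_left_cancel₀ hp1
    linear_combination hpair + D.ε * m' * cv t (D.Y 1) ^ 2 * hcard
  have h2 : (dg A : ℤ) * dg B * z0 D + D.δ A * cv t A ^ 2 * dg B * z0 D +
      D.δ B * cv t B ^ 2 * dg A * z0 D = D.ε * cv t (D.Y 1) ^ 2 * dg A * dg B := by
    apply mul_left_cancel₀ hN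
    linear_combination (dg A * dg B * z0 D : ℤ) * h1 -
      D.δ A * cv t A ^ 2 * dg B * z0 D * e1 - D.δ B * cv t B ^ 2 * dg A * z0 D * e2 +
      D.ε * cv t (D.Y 1) ^ 2 * dg A * dg B * e3
  have hα : |cv t A| < dg A := by
    rw [← Int.natCast_natAbs]
    exact_mod_cast natAbs_cv_lt hna hR ht1 hA.1
  have hβ : |cv t B| < dg B := by
    rw [← Int.natCast_natAbs]
    exact_mod_cast natAbs_cv_lt hna hR ht1 hB.1
  rcases b3_arith (dg_pos A) (dg_pos B) (z0_pos D) hα hβ D.ε_sign (D.δ_sign A hA.2)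
    (D.δ_sign B hB.2) hd hr h2 with h3 | h3
  · exact ⟨A, B, hAB, hX, h3⟩
  · exact ⟨B, A, hAB.symm, by rw [hX, Finset.pair_comm], h3⟩

omit hp in
open scoped _root_.Classical in
theorem k19 [Fact (Nat.Prime 19)] {n : IrrCharacter G → ℕ} (h : Psi 19 x 16 n) (he : ee x = 3) :
    (∃ θ : IrrCharacter G, dg θ = 22) ∧
      ∑ φ ∈ Finset.univ.filter (fun φ => ¬ 11 ∣ dg φ), n φ ≤ 4 := by
  haveI := h.simple
  have hs := h.sc.syl
  obtain ⟨ζ, hζ, ⟨D⟩⟩ := exists_data hs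
  obtain ⟨A, B, hAB, hX, hδB, hc⟩ := b3 h.perf D hζ h.sc he
  have hA := (mem_Xs D).mp (hX ▸ Finset.mem_insert_self A {B})
  have hB := (mem_Xs D).mp
    (hX ▸ Finset.mem_insert_of_mem (Finset.mem_singleton_self B) : B ∈ Xs D)
  have hsum : ∀ {M : Type} [AddCommMonoid M] (f : IrrCharacter G → M),
      ∑ χ ∈ D.X, f χ = f (irrOne G) + (f A + f B) := fun f => by
    rw [sum_X D f, hX, Finset.sum_pair hAB]
  have hall : ∀ f : IrrCharacter G → ℕ, ∑ φ, f φ = f (irrOne G) + (f A + f B) +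
      ∑ θ ∈ Ys D, f θ + ∑ φ ∈ Finset.univ \ (D.X ∪ Ys D), f φ := fun f => by
    rw [← hsum, ← Finset.sum_union (disjoint_X_Ys D), add_comm,
      Finset.sum_sdiff (Finset.subset_univ _)]
  have h1 : 18 * (1 + (D.δ A * n A + D.δ B * n B)) - D.ε * 3 * (∑ θ ∈ Ys D, n θ : ℕ) = 48 := by
    have := h.sum
    rw [psi_eq D hζ h.sc, hsum, D.δ_one, h.one, he] at this
    have h2 : ((((19 : ℕ) : ℤ) - 1) * (1 * (1 : ℕ) + (D.δ A * n A + D.δ B * n B)) -
        D.ε * (3 : ℕ) * ∑ θ ∈ Ys D, (n θ : ℤ) : ℤ) = 48 := by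
      have h3 : ((19 : ℕ) : ℂ) * (3 : ℕ) - ((3 : ℕ) : ℂ) ^ 2 = (48 : ℤ) := by norm_num
      rw [h3] at this
      exact_mod_cast this
    push_cast at h2 ⊢
    linear_combination h2
  have h2 := h.deg
  rw [hall, h.one, dg_one, Finset.sum_congr rfl (g := fun θ => n θ * z0 D)
    fun θ hθ => by rw [dg_of_mem_Ys D hθ], ← Finset.sum_mul] at h2
  have h3 : 19 * ∑ φ ∈ Finset.univ \ (D.X ∪ Ys D), n φ ≤
      ∑ φ ∈ Finset.univ \ (D.X ∪ Ys D), n φ * dg φ := by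
    rw [Finset.mul_sum]
    refine Finset.sum_le_sum fun φ hφ => ?_
    rw [Finset.mem_sdiff, Finset.mem_union, not_or] at hφ
    rw [mul_comm]
    exact Nat.mul_le_mul_left _ (Nat.le_of_dvd (dg_pos φ) (other_deg D h.sc hφ.2.1 hφ.2.2))
  have hd : D.ε * z0 D = 1 + D.δ A * dg A + D.δ B * dg B := by
    rw [deg_eq D, hsum, D.δ_one, add_assoc]
    congr 1
    rw [show charDegree (irrOne G : G → ℂ) = 1 from dg_one]
    rfl
  have ha : (dg A : ℤ) ≡ D.δ A [ZMOD (19 : ℕ)] := D.X_deg A hA.2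
  have hb : (dg B : ℤ) ≡ D.δ B [ZMOD (19 : ℕ)] := D.X_deg B hB.2
  have hm : (z0 D : ℤ) ≡ D.ε * (3 : ℕ) [ZMOD (19 : ℕ)] := by
    have := D.Y_deg 1
    rwa [card_U D hs, he] at this
  have ha1 := one_lt_dg (b3_hna h.perf) hA.1
  have key : z0 D = 22 ∧ dg A = 77 ∧ n B = 0 ∧ ∑ φ ∈ Finset.univ \ (D.X ∪ Ys D), n φ ≤ 3 := by
    generalize ∑ φ ∈ Finset.univ \ (D.X ∪ Ys D), n φ * dg φ = R at *
    generalize ∑ φ ∈ Finset.univ \ (D.X ∪ Ys D), n φ = S at *
    generalize ∑ θ ∈ Ys D, n θ = N at *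
    generalize z0 D = m at *
    generalize dg A = a at *
    generalize dg B = b at *
    generalize n A = nA at *
    generalize n B = nB at *
    rw [hδB] at h1 hd hb
    unfold Int.ModEq at ha hb hm
    rcases hc with ⟨hε, hδA, hsq⟩ | ⟨hε, hδA⟩
    · rw [hε, hδA] at h1 hd
      rw [hδA] at ha
      rw [hε] at hm
      have e1 : 2 * a ≤ nA * a := Nat.mul_le_mul_right _ (by omega)
      have e2 : 2 * m ≤ N * m := Nat.mul_le_mul_right _ (by omega)
      obtain ⟨i, rfl⟩ : ∃ i, m = 19 * i + 3 := ⟨m / 19, by omega⟩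
      obtain ⟨j, rfl⟩ : ∃ j, b = 19 * j + 18 := ⟨b / 19, by omega⟩
      obtain rfl : a = 19 * (i + j + 1) + 1 := by omega
      obtain ⟨rfl, rfl⟩ := k19_arith (by omega) hsq
      omega
    · rw [hε, hδA] at h1 hd
      rw [hδA] at ha
      rw [hε] at hm
      have e2 : 10 * m ≤ N * m := Nat.mul_le_mul_right _ (by omega)
      omega
  obtain ⟨k1, k2, k3, k4⟩ := key
  refine ⟨⟨D.Y 1, k1⟩, ?_⟩
  rw [Finset.sum_filter, hall, Finset.sum_eq_zero (s := Ys D) fun θ hθ => by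
    rw [dg_of_mem_Ys D hθ, k1, if_neg (by decide)], k2, if_neg (c := ¬ 11 ∣ 77) (by decide), k3,
    h.one]
  have : ∑ φ ∈ Finset.univ \ (D.X ∪ Ys D), (if ¬ 11 ∣ dg φ then n φ else 0) ≤
      ∑ φ ∈ Finset.univ \ (D.X ∪ Ys D), n φ :=
    Finset.sum_le_sum fun φ _ => by split_ifs <;> omega
  split_ifs <;> omega

end CfsgLib.Blau
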