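import Mathlib
import Cfsg.Agent.Lib.LowD2.Half2
import Cfsg.Agent.Lib.FewSyl.Gen
import Cfsg.Agent.Lib.ChTab.Int
import Cfsg.Agent.Lib.ChA.Eigen
import Cfsg.Agent.Lib.ChDeg.Cliff

/-!
Definitions for the linear groups of degree `d < p - 1`.
-/

set_option autoImplicit false

namespace CfsgLib.Blau

open Cfsg CfsgLib.Char CfsgLib.DefectOne CfsgLib.DefectOne.B43 CfsgLib.Tuan Subgroup

variable {G : Type*} [Group G]

open scoped _root_.Classical in
/-- the multiplicity of the eigenvalue `μ` of `x` in a representation with character `χ` -/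
noncomputable def em (χ : G → ℂ) (x : G) (μ : ℂ) : ℕ :=
  if h : IsCharacter G χ then
    Module.finrank ℂ (Module.End.eigenspace (h.choose_spec.choose x) μ) else 0

/-- `g` is a `p`-element -/
def PE (p : ℕ) (g : G) : Prop := ∃ k : ℕ, g ^ p ^ k = 1

/-- the subgroup generated by the `p`-elements -/
def Gp (p : ℕ) (G : Type*) [Group G] : Subgroup G := closure {g | PE p g}

/-- `∑ φ, n φ • φ` is the character `χ * conj χ` of the central quotient, for `χ` of degree
`d = p - e` -/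
structure Psi [Finite G] (p : ℕ) [Fact p.Prime] (x : G) (d : ℕ) (n : IrrCharacter G → ℕ) :
    Prop where
  sc : SC p x
  simple : IsSimpleGroup G
  perf : commutator G = ⊤
  one : n (irrOne G) = 1
  deg : ∑ φ, n φ * dg φ = d ^ 2
  sum : ∑ j : (ZMod p)ˣ, ∑ φ, (n φ : ℂ) * (φ : G → ℂ) (x ^ (j : ZMod p).val) =
    p * ee x - (ee x : ℂ) ^ 2
  pos : ∀ g, ∃ r : ℝ, 0 ≤ r ∧ ∑ φ, (n φ : ℂ) * (φ : G → ℂ) g = r

end CfsgLib.Blau
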