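import Cfsg.Agent.Lib.Blau.Defs

/-!
Multiplicities of eigenvalues.
-/

set_option autoImplicit false

namespace CfsgLib.Blau

open Cfsg CfsgLib.Char CfsgLib.ChDeg CfsgLib.DefectOne CfsgLib.DefectOne.B43 CfsgLib.Tuan
  CfsgLib.LowDeg CfsgLib.LowD2 CfsgLib.FewSyl CfsgLib.ChTab Subgroup
open scoped ComplexConjugate MatrixGroups commutatorElement

variable {G : Type*} [Group G] [Finite G] {χ ψ : G → ℂ} {x y : G} {μ ν : ℂ}

open Module ChA

omit [Finite G] in
theorem eig_eq_bot {V : Type*} [AddCommGroup V] [Module ℂ V] (ρ : Representation ℂ G V) {M : ℕ}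
    (hx : x ^ M = 1) (hμ : μ ^ M ≠ 1) : End.eigenspace (ρ x) μ = ⊥ :=
  (Submodule.eq_bot_iff _).2 fun _ hv => by_contra fun h =>
    hμ (pow_eq_one_of_eigen ρ hx h (End.mem_eigenspace_iff.1 hv))

theorem em_rep {V : Type*} [AddCommGroup V] [Module ℂ V] [FiniteDimensional ℂ V]
    (ρ : Representation ℂ G V) (x : G) (μ : ℂ) :
    em ρ.character x μ = Module.finrank ℂ (Module.End.eigenspace (ρ x) μ) := by
  have h := isCharacter_of_rep ρ
  rw [em, dif_pos h]
  by_cases hμ : μ ^ orderOf x = 1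
  · have h0 := (orderOf_pos x).ne'
    have h1 := sum_eq_finrank ρ h0 (pow_orderOf_eq_one x) hμ
    have h2 := sum_eq_finrank h.choose_spec.choose h0 (pow_orderOf_eq_one x) hμ
    rw [h.choose_spec.choose_spec, h1] at h2
    exact_mod_cast (mul_left_cancel₀ (Nat.cast_ne_zero.2 h0) h2).symm
  · rw [eig_eq_bot _ (pow_orderOf_eq_one x) hμ, eig_eq_bot _ (pow_orderOf_eq_one x) hμ,
      finrank_bot, finrank_bot]

theorem em_cast (hχ : IsCharacter G χ) {M : ℕ} (hM : M ≠ 0) (hx : x ^ M = 1) (hμ : μ ^ M = 1) :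
    (M : ℂ) * em χ x μ = ∑ i ∈ Finset.range M, μ⁻¹ ^ i * χ (x ^ i) := by
  obtain ⟨n, ρ, rfl⟩ := hχ
  rw [em_rep, sum_eq_finrank ρ hM hx hμ]

theorem em_eq_zero (hχ : IsCharacter G χ) {M : ℕ} (hx : x ^ M = 1) (hμ : μ ^ M ≠ 1) :
    em χ x μ = 0 := by
  obtain ⟨n, ρ, rfl⟩ := hχ
  rw [em_rep, eig_eq_bot _ hx hμ, finrank_bot]

/-- the character of `C(x)` on an eigenspace of `x` -/
theorem isCharacter_eig (hχ : IsCharacter G χ) {M : ℕ} (hM : M ≠ 0) (hx : x ^ M = 1)
    (hμ : μ ^ M = 1) (C : Subgroup G) (hC : C ≤ CC x) :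
    IsCharacter C fun c => (M : ℂ)⁻¹ * ∑ i ∈ Finset.range M, μ⁻¹ ^ i * χ (x ^ i * c) := by
  obtain ⟨n, ρ, rfl⟩ := hχ
  have h0 : μ ≠ 0 := by rintro rfl; simp [hM] at hμ
  have hA : (M : ℂ) ≠ 0 := Nat.cast_ne_zero.2 hM
  let E : End ℂ (Fin n → ℂ) := (M : ℂ)⁻¹ • avg ρ x μ M
  have hE : ∀ v, E (E v) = E v := fun v => by
    simp only [E, LinearMap.smul_apply, map_smul]
    rw [avg_of_eigen ρ h0 M (eigen_avg ρ h0 hx hμ v), smul_smul (M : ℂ)⁻¹ (M : ℂ),
      inv_mul_cancel₀ hA, one_smul]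
  have hc : ∀ g : C, E * ρ g = ρ g * E := fun g => by
    simp only [E, avg, smul_mul_assoc, mul_smul_comm, Finset.sum_mul, Finset.mul_sum, ← map_mul]
    congr 1
    exact Finset.sum_congr rfl fun i _ => by rw [((mem_CC.1 (hC g.2)).pow_left i).eq]
  let σ : Representation ℂ C (Fin n → ℂ) := ρ.comp C.subtype
  let T : σ.IntertwiningMap σ := ⟨E, hc⟩
  convert isCharacter_trace_comp_idempotent T hE using 2 with g
  change _ = LinearMap.trace ℂ _ (ρ g * E)
  rw [← hc]
  simp only [E, avg, smul_mul_assoc, Finset.sum_mul, ← map_mul, map_smul, map_sum, smul_eq_mul]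
  rfl

theorem em_add (hχ : IsCharacter G χ) (hψ : IsCharacter G ψ) (x : G) (μ : ℂ) :
    em (χ + ψ) x μ = em χ x μ + em ψ x μ := by
  have h := isCharacter_add hχ hψ
  have hx := pow_orderOf_eq_one x
  by_cases hμ : μ ^ orderOf x = 1
  · have h0 := (orderOf_pos x).ne'
    have h1 := em_cast h h0 hx hμ
    simp only [Pi.add_apply, mul_add, Finset.sum_add_distrib] at h1
    rw [← em_cast hχ h0 hx hμ, ← em_cast hψ h0 hx hμ, ← mul_add] at h1
    exact_mod_cast mul_left_cancel₀ (Nat.cast_ne_zero.2 h0) h1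
  · rw [em_eq_zero h hx hμ, em_eq_zero hχ hx hμ, em_eq_zero hψ hx hμ]

theorem em_comp {H : Type*} [Group H] [Finite H] (f : H →* G) (hχ : IsCharacter G χ) (x : H)
    (μ : ℂ) : em (fun h => χ (f h)) x μ = em χ (f x) μ := by
  obtain ⟨n, ρ, rfl⟩ := hχ
  rw [em_rep]
  exact em_rep (ρ.comp f) x μ

theorem em_res (H : Subgroup G) (hχ : IsCharacter G χ) (x : H) (μ : ℂ) :
    em (fun h : H => χ h) x μ = em χ x μ := em_comp H.subtype hχ x μ

theorem em_conj (hχ : IsCharacter G χ) (g x : G) (μ : ℂ) : em χ (g * x * g⁻¹) μ = em χ x μ := by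
  have h := em_comp (MulAut.conj g).toMonoidHom hχ x μ
  rw [show (fun h => χ ((MulAut.conj g).toMonoidHom h)) = χ from
    funext fun h => isClassFunction_of_isCharacter hχ h g] at h
  exact h.symm

theorem em_mul_hom (hχ : IsCharacter G χ) (l : G →* ℂˣ) (x : G) (μ : ℂ) :
    em (fun g => l g * χ g) x (l x * μ) = em χ x μ := by
  have h : IsCharacter G fun g => l g * χ g :=
    isCharacter_mul (isCharacter_of_isIrr (isIrr_unitsHom l)) hχ
  have hx := pow_orderOf_eq_one x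
  have hl : (l x : ℂ) ^ orderOf x = 1 := by
    rw [← Units.val_pow_eq_pow_val, ← map_pow, hx, map_one, Units.val_one]
  by_cases hμ : μ ^ orderOf x = 1
  · have h0 := (orderOf_pos x).ne'
    have h1 := em_cast h h0 hx (μ := l x * μ) (by rw [mul_pow, hl, hμ, one_mul])
    rw [Finset.sum_congr rfl (g := fun i => μ⁻¹ ^ i * χ (x ^ i)) fun i _ => by
      simp only [map_pow, Units.val_pow_eq_pow_val, mul_inv, mul_pow, inv_pow]
      field_simp, ← em_cast hχ h0 hx hμ] at h1
    exact_mod_cast mul_left_cancel₀ (Nat.cast_ne_zero.2 h0) h1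
  · rw [em_eq_zero h hx (by rwa [mul_pow, hl, one_mul]), em_eq_zero hχ hx hμ]

theorem em_two_le (hχ : IsCharacter G χ) {d : ℕ} (hd : χ 1 = d) (x : G) (h : μ ≠ ν) :
    em χ x μ + em χ x ν ≤ d := by
  obtain ⟨n, ρ, rfl⟩ := hχ
  obtain rfl : n = d := by simpa using hd
  rw [em_rep, em_rep, ← Submodule.finrank_sup_add_finrank_inf_eq,
    disjoint_iff.1 ((End.eigenspaces_iSupIndep (ρ x)).pairwiseDisjoint h), finrank_bot]
  simpa using Submodule.finrank_le (End.eigenspace (ρ x) μ ⊔ End.eigenspace (ρ x) ν)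

theorem em_le (hχ : IsCharacter G χ) {d : ℕ} (hd : χ 1 = d) (x : G) (μ : ℂ) : em χ x μ ≤ d :=
  (Nat.le_add_right _ _).trans (em_two_le hχ hd x (ν := μ + 1) (by simp))

theorem em_eq_iff (hχ : IsCharacter G χ) {d : ℕ} (hd : χ 1 = d) :
    em χ x μ = d ↔ ∀ g, χ (x * g) = μ * χ g := by
  obtain ⟨n, ρ, rfl⟩ := hχ
  obtain rfl : n = d := by simpa using hd
  rw [em_rep]
  constructor
  · intro h g
    have h1 : End.eigenspace (ρ x) μ = ⊤ := Submodule.eq_top_of_finrank_eq (by simpa using h)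
    have h2 : ρ x = μ • (1 : End ℂ _) :=
      LinearMap.ext fun v => End.mem_eigenspace_iff.1 (h1 ▸ Submodule.mem_top)
    simp [Representation.character, h2]
  · intro h
    rcases Nat.eq_zero_or_pos n with rfl | hn
    · exact finrank_zero_of_subsingleton
    have hn' : (n : ℂ) ≠ 0 := Nat.cast_ne_zero.2 hn.ne'
    have h1 : ρ.character x = μ * n := by simpa using h 1
    have h2 : ∀ i : ℕ, ρ.character (x ^ i) = μ ^ i * n := fun i => by
      induction i with
      | zero => simp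
      | succ i ih => rw [pow_succ', h, ih, pow_succ', mul_assoc]
    have h3 : μ ^ orderOf x = 1 := by
      have := h2 (orderOf x)
      rw [pow_orderOf_eq_one, hd] at this
      exact mul_right_cancel₀ hn' (by rw [one_mul, ← this])
    have h4 := rep_eq_smul_of_norm_eq ρ x (by
      rw [h1, norm_mul, Complex.norm_eq_one_of_pow_eq_one h3 (orderOf_pos x).ne']; simp)
    rw [h1, finrank_fin_fun, mul_div_cancel_right₀ _ hn'] at h4
    rw [show End.eigenspace (ρ x) μ = ⊤ from eq_top_iff.2 fun v _ =>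
      End.mem_eigenspace_iff.2 (by rw [h4]; rfl)]
    simp

/-- two generators of an irreducible group have no common eigenvector -/
theorem em_pair (hχ : IsIrrCharacter G χ) {d : ℕ} (hd : χ 1 = d) (h1 : d ≠ 1)
    (h : closure {x, y} = ⊤) (μ ν : ℂ) : em χ x μ + em χ y ν ≤ d := by
  obtain ⟨n, ρ, hρ, rfl⟩ := hχ
  obtain rfl : n = d := by simpa using hd
  rw [em_rep, em_rep, ← Submodule.finrank_sup_add_finrank_inf_eq]
  have h2 : End.eigenspace (ρ x) μ ⊓ End.eigenspace (ρ y) ν = ⊥ := by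
    refine (Submodule.eq_bot_iff _).2 fun v hv => by_contra fun h0 => h1 ?_
    have h3 : ∀ g : G, ∃ c : ℂ, ρ g v = c • v := fun g => by
      refine closure_induction_left (p := fun g _ => ∃ c : ℂ, ρ g v = c • v) ⟨1, by simp⟩ ?_ ?_
        (h ▸ mem_top g)
      all_goals
        rintro a ha b - ⟨c, hc⟩
        obtain ⟨e, he⟩ : ∃ e : ℂ, ρ a v = e • v := by
          rcases ha with rfl | rfl
          exacts [⟨_, End.mem_eigenspace_iff.1 hv.1⟩, ⟨_, End.mem_eigenspace_iff.1 hv.2⟩]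
      · exact ⟨c * e, by rw [map_mul, End.mul_apply, hc, map_smul, he, smul_smul]⟩
      · refine ⟨c * e ^ (orderOf a - 1), ?_⟩
        rw [show a⁻¹ = a ^ (orderOf a - 1) from inv_eq_of_mul_eq_one_right (by
          rw [← pow_succ', Nat.sub_add_cancel (orderOf_pos a), pow_orderOf_eq_one]), map_mul,
          End.mul_apply, hc, map_smul, pow_apply_of_eigen ρ he, smul_smul]
    let W : Subrepresentation ρ := ⟨ℂ ∙ v, fun g w hw => by
      obtain ⟨c, rfl⟩ := Submodule.mem_span_singleton.1 hw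
      obtain ⟨e, he⟩ := h3 g
      rw [map_smul, he]
      exact Submodule.smul_mem _ _ (Submodule.smul_mem _ _ (Submodule.mem_span_singleton_self v))⟩
    rcases eq_bot_or_eq_top W with h4 | h4
    · exact absurd (Submodule.span_singleton_eq_bot.1
        (congrArg Subrepresentation.toSubmodule h4)) h0
    · have h5 : (ℂ ∙ v) = ⊤ := congrArg Subrepresentation.toSubmodule h4
      have h6 := finrank_span_singleton (K := ℂ) h0
      rw [h5] at h6
      simpa using h6
  rw [h2, finrank_bot]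
  simpa using Submodule.finrank_le (End.eigenspace (ρ x) μ ⊔ End.eigenspace (ρ y) ν)

/-- commutators in `C(x)` act trivially on the eigenspaces of dimension one -/
theorem em_comm (hχ : IsCharacter G χ) {d : ℕ} (hd : χ 1 = d) (h : ∀ μ, μ ≠ 1 → em χ x μ ≤ 1)
    {u g : G} (hu : Commute x u) (hg : Commute x g) : d ≤ em χ x 1 + em χ ⁅u, g⁆ 1 := by
  obtain ⟨n, ρ, rfl⟩ := hχ
  obtain rfl : n = d := by simpa using hd
  simp only [em_rep] at h ⊢
  have h1 : End.IsSemisimple (ρ x) := End.isSemisimple_of_squarefree_aeval_eq_zero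
    (Polynomial.separable_X_pow_sub_C (1 : ℂ) (Nat.cast_ne_zero.2 (orderOf_pos x).ne')
      one_ne_zero).squarefree (by
        rw [map_sub, map_pow, Polynomial.aeval_X, ← map_pow, pow_orderOf_eq_one]; simp)
  have h2 : End.eigenspace (ρ x) 1 ⊔ End.eigenspace (ρ ⁅u, g⁆) 1 = ⊤ := by
    rw [eq_top_iff, ← h1.iSup_eigenspace_eq_top]
    refine iSup_le fun μ => ?_
    by_cases hμ : μ = 1
    · exact hμ ▸ le_sup_left
    refine le_sup_of_le_right fun v hv => ?_
    by_cases h0 : v = 0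
    · exact h0 ▸ zero_mem _
    have h3 : ∀ a, Commute x a → ∃ c : ℂ, ρ a v = c • v := fun a ha => by
      have h4 : ρ a v ∈ End.eigenspace (ρ x) μ := End.mem_eigenspace_iff.2 (by
        rw [← End.mul_apply, ← map_mul, ha.eq, map_mul, End.mul_apply,
          End.mem_eigenspace_iff.1 hv, map_smul])
      obtain ⟨c, hc⟩ := (finrank_eq_one_iff_of_nonzero' (⟨v, hv⟩ : End.eigenspace (ρ x) μ)
        fun e => h0 (congrArg Subtype.val e)).1 (le_antisymm (h μ hμ)
          (finrank_pos_iff_exists_ne_zero.2 ⟨⟨v, hv⟩, fun e => h0 (congrArg Subtype.val e)⟩))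
        ⟨_, h4⟩
      exact ⟨c, (congrArg Subtype.val hc).symm⟩
    obtain ⟨a, ha⟩ := h3 u⁻¹ hu.inv_right
    obtain ⟨b, hb⟩ := h3 g⁻¹ hg.inv_right
    have h5 : ρ (u⁻¹ * g⁻¹) v = ρ (g⁻¹ * u⁻¹) v := by
      simp only [map_mul, End.mul_apply, ha, hb, map_smul, smul_comm a b]
    rw [End.mem_eigenspace_iff, one_smul, commutatorElement_def, mul_assoc (u * g), map_mul,
      End.mul_apply, h5, ← End.mul_apply, ← map_mul]
    simp
  have h3 := Submodule.finrank_sup_add_finrank_inf_eq (End.eigenspace (ρ x) 1)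
    (End.eigenspace (ρ ⁅u, g⁆) 1)
  rw [h2, finrank_top, finrank_fin_fun] at h3
  omega

end CfsgLib.Blau
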