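import Cfsg.Agent.Lib.Blau.Quo
import Cfsg.Agent.Lib.Block.Span
import Cfsg.Agent.S4488

/-!
Package K11. The configuration `p = 19`, `d = 16` is contradictory at the prime 11.

`Z = center G`, `z ^ 16 = 1` on `Z` (`center_pow`), `θ' = θ ∘ mk` is irreducible of degree 22 with
kernel `Z` (`eq_one_of_norm_eq`; the quotient is not abelian as `dg θ ≠ 1`).
1. Write `|G| = 11 ^ k * m`, `11 ∤ m`. For `j` prime to 11 let `r ≡ j (mod 11 ^ k)`,
`r ≡ 1 (mod 304 m)` (`Nat.chineseRemainder`); so `χ (w ^ j * c) = χ (w * c)` for an 11-element `w`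
and an 11-regular `c` commuting with `w`. `S4488.pgroup_bound` on a Sylow subgroup: `k ≤ 1`;
`11 ∣ dg θ ∣ |G|`. So there is `y` with `hs : Syl 11 y` (`Tuan.exists_syl`); `K = hs.KK ⊇ Z`.
`χ y = c ∈ ℤ` (`exists_int_of_pow_eq` on `zpowers y`, or from `em_cast`: `11 em χ y 1 = 16 + 10 c`,
`11 em χ y ζ = 16 - c`), `c ≠ 16`, `|c| ≤ 16`, so `c = 5`.
2. `K` is abelian. `θ'` vanishes on 11-singular elements (`Block.irr_eq_zero_of_factorization_eq`,
`dvd_orderOf_pow_mul`), so `μ := θ' / 11` on `K` is a character of degree 2 (`isCharacter_eig`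
with eigenvalue 1), with kernel `Z`. `[K : Z]` is odd: otherwise some `k ∈ K` maps to an involution
`t` of `G / Z` (Cauchy in `K.map mk'`), `τ = cv t θ = 11 μ k`, so `11 ∣ τ`
(`dvd_of_eq_mul_isIntegral`), `4 ∣ 22 - τ` (`cv_mod_four`), `|τ| < 22` (`natAbs_cv_lt`). The
constituents of `μ` have degree `≤ 2` dividing `[K : Z]` (`deg_dvd_index_of_le_cker`,
`cker_le_of_inner_ne_zero`), so they are linear and `⁅a, b⁆ ∈ Z` (`mem_cker_of_forall`,
`commutator_le_cker`). With `N = [K : Z]`: `a ^ N ∈ Z`, `⁅a, b⁆ ^ N = ⁅a ^ N, b⁆ = 1` and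
`⁅a, b⁆ ^ 16 = 1`.
3. `f k := χ (y * k) = A k - B k` on `K`, where `A = (χ + 10 f) / 11`, `B = (χ - f) / 11` are the
characters `isCharacter_eig` for the eigenvalues `1` and `ζ` (`∑ i < 11, ζ⁻¹ ^ i = 0`). As `K` is
abelian, `f = ∑ c σ • σ` with integers `c σ`, `σ 1 = 1`, so `⟨f, f⟩ = ∑ c² ≥ ∑ c = f 1 = 5`.
4. For `F : G → ℂ` put `S F = ∑ j : (ZMod 11)ˣ, ∑ k : K, F (y ^ j.val * k)`. By 1 and 3,
`S (χ * conj χ) ≥ 50 |K|`. Let `D : PrinData 11 y ζ` (`exists_data`). For irreducible `φ` of `G`: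
`S φ = 10 δ |K|` on `D.X`, `= - ε |U| |K|` on `Ys D` (`sum_j_Y`, `|U| ≤ 10`), `= 0` otherwise
(`D.other`); and `11 ∤ dg φ` in the first two cases (`not_dvd_of_b0`). So by `hn` (`isIrr_infl`)
`re (S (χ * conj χ)) ≤ 10 |K| * 4`.
-/

set_option autoImplicit false

namespace CfsgLib.Blau

open Cfsg CfsgLib.Char CfsgLib.ChDeg CfsgLib.DefectOne CfsgLib.DefectOne.B43 CfsgLib.Tuan
  CfsgLib.LowDeg CfsgLib.LowD2 CfsgLib.FewSyl CfsgLib.ChTab Subgroup
open scoped ComplexConjugate MatrixGroups commutatorElement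

theorem k11_sum {F : ℕ → ℂ} {f : ℂ} (h : ∀ i, 0 < i → i < 11 → F i = f) (ν : ℂ) :
    ∑ i ∈ Finset.range 11, ν ^ i * F i = F 0 + (∑ i ∈ Finset.range 11, ν ^ i - 1) * f := by
  rw [Finset.sum_range_succ', Finset.sum_range_succ' (fun i => ν ^ i), Finset.sum_congr rfl
    (g := fun i => ν ^ (i + 1) * f) fun i hi => by
      rw [h (i + 1) (by omega) (by have := Finset.mem_range.mp hi; omega)], ← Finset.sum_mul]
  ring

variable {G : Type*} [Group G] [Finite G] {χ : G → ℂ}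

theorem k11_gal
    (hgal : ∀ r : ℕ, r.Coprime (Nat.card G) → r ≡ 1 [MOD 304] → ∀ g, χ (g ^ r) = χ g)
    {w c : G} {a : ℕ} (hw : w ^ 11 ^ a = 1) (hc : ¬ 11 ∣ orderOf c) (hwc : Commute w c) {j : ℕ}
    (hj : j.Coprime 11) : χ (w ^ j * c) = χ (w * c) := by
  obtain ⟨k, m, hm, hG⟩ := Nat.exists_eq_pow_mul_and_not_dvd (Nat.card_pos (α := G)).ne' 11
    (by decide)
  have h11 : Nat.Prime 11 := by decide
  have hm' : Nat.Coprime 11 m := (h11.coprime_iff_not_dvd).mpr hm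
  have co : (11 ^ (a + 1)).Coprime (304 * m) :=
    Nat.Coprime.pow_left _ (Nat.Coprime.mul_right (by decide) hm')
  obtain ⟨r, hr1, hr2⟩ := Nat.chineseRemainder co j 1
  have h1 : r.Coprime 11 := by
    have := (hr1.of_dvd (dvd_pow_self 11 (Nat.succ_ne_zero a))).gcd_eq
    rwa [Nat.Coprime, this]
  have h2 : r.Coprime m := by
    have := (hr2.of_dvd (dvd_mul_left m 304)).gcd_eq
    rw [Nat.Coprime, this, Nat.gcd_one_left]
  have h3 : orderOf c ∣ m := by
    have := orderOf_dvd_natCard c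
    rw [hG] at this
    exact (Nat.Coprime.pow_right k ((h11.coprime_iff_not_dvd).mpr hc).symm).dvd_of_dvd_mul_left this
  have h4 : w ^ r = w ^ j := pow_eq_pow_iff_modEq.mpr
    (hr1.of_dvd ((orderOf_dvd_of_pow_eq_one hw).trans (pow_dvd_pow 11 (Nat.le_succ a))))
  have h5 : c ^ r = c ^ 1 := pow_eq_pow_iff_modEq.mpr (hr2.of_dvd (h3.trans (dvd_mul_left m 304)))
  rw [← hgal r (by rw [hG]; exact Nat.Coprime.mul_right (h1.pow_right k) h2)
    (hr2.of_dvd (dvd_mul_right 304 m)) (w * c), hwc.mul_pow, h4, h5, pow_one]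

theorem k11_norm [Fintype G] (hc : ∀ a b : G, a * b = b * a) {A B : G → ℂ}
    (hA : IsCharacter G A) (hB : IsCharacter G B) {a b : ℕ} (ha : A 1 = a) (hb : B 1 = b) :
    ∃ N : ℤ, (a : ℤ) - b ≤ N ∧ ∑ k, (A k - B k) * conj (A k - B k) = Nat.card G * N := by
  haveI : IsMulCommutative G := ⟨⟨hc⟩⟩
  obtain ⟨m, -, hm⟩ := exists_char_eq_sum_nat hA
  obtain ⟨n, -, hn⟩ := exists_char_eq_sum_nat hB
  have h1 : ∀ σ : IrrCharacter G, dg σ = 1 := fun σ => by
    have := dg_cast σ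
    rw [irr_one_eq_one_of_comm σ.2] at this
    exact_mod_cast this
  have h2 := one_eq_sum hm
  have h3 := one_eq_sum hn
  simp only [h1, mul_one] at h2 h3
  rw [ha, Nat.cast_inj] at h2
  rw [hb, Nat.cast_inj] at h3
  refine ⟨∑ σ, ((m σ : ℤ) - n σ) ^ 2, ?_, ?_⟩
  · rw [h2, h3]
    push_cast
    rw [← Finset.sum_sub_distrib]
    exact Finset.sum_le_sum fun σ _ => Int.le_self_sq _
  · have e1 := card_mul_classInner A A
    have e2 := card_mul_classInner A B
    have e3 := card_mul_classInner B A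
    have e4 := card_mul_classInner B B
    rw [inner_eq_sum hm hm] at e1
    rw [inner_eq_sum hm hn] at e2
    rw [inner_eq_sum hn hm] at e3
    rw [inner_eq_sum hn hn] at e4
    have e5 : ∑ k, (A k - B k) * conj (A k - B k) = ∑ k, A k * conj (A k) -
        ∑ k, A k * conj (B k) - ∑ k, B k * conj (A k) + ∑ k, B k * conj (B k) := by
      rw [← Finset.sum_sub_distrib, ← Finset.sum_sub_distrib, ← Finset.sum_add_distrib]
      exact Finset.sum_congr rfl fun k _ => by rw [map_sub]; ring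
    rw [e5, ← e1, ← e2, ← e3, ← e4, ← mul_sub, ← mul_sub, ← mul_add]
    congr 1
    push_cast
    rw [← Finset.sum_sub_distrib, ← Finset.sum_sub_distrib, ← Finset.sum_add_distrib]
    exact Finset.sum_congr rfl fun σ _ => by ring

theorem k11_S {p : ℕ} [hp : Fact p.Prime] {x : G} (hs : Syl p x) [Fintype hs.KK]
    (φ : IrrCharacter G) : ∃ s : ℤ, s ≤ p - 1 ∧ (p ∣ dg φ → s = 0) ∧
      ∑ j : (ZMod p)ˣ, ∑ k : hs.KK, (φ : G → ℂ) (x ^ (j : ZMod p).val * k) =
        s * Nat.card hs.KK := by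
  have hk : ∀ k : hs.KK, Commute x k ∧ ¬ p ∣ orderOf (k : G) := fun k =>
    ⟨mem_CC.mp (hs.mem_KK.mp k.2).1, (hs.mem_KK.mp k.2).2⟩
  have hp1 := hp.out.one_le
  by_cases h0 : p ∣ dg φ
  · refine ⟨0, by omega, fun _ => rfl, ?_⟩
    rw [Int.cast_zero, zero_mul]
    exact Finset.sum_eq_zero fun j _ => Finset.sum_eq_zero fun k _ =>
      dz_val hs h0 (dvd_orderOf_pow_mul hs j (hk k).1 (hk k).2)
  obtain ⟨ζ, hζ, ⟨D⟩⟩ := exists_data hs
  by_cases h1 : φ ∈ D.X
  · refine ⟨(p - 1) * D.δ φ, ?_, fun h => absurd h h0, ?_⟩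
    · rcases D.δ_sign φ h1 with e | e <;> rw [e] <;> omega
    · rw [Finset.sum_congr rfl fun j _ => Finset.sum_congr rfl fun k _ =>
        D.X_val φ h1 _ (dvd_orderOf_pow_mul hs j (hk k).1 (hk k).2)]
      simp only [Finset.sum_const, Finset.card_univ, nsmul_eq_mul, card_units_cast,
        Nat.card_eq_fintype_card]
      push_cast
      ring
  by_cases h2 : ∃ a, D.Y a = φ
  · obtain ⟨a, rfl⟩ := h2
    refine ⟨-(D.ε * ee x), ?_, fun h => absurd h h0, ?_⟩
    · have := Nat.le_of_dvd (by have := hp.out.two_le; omega) (ee_dvd hs)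
      rcases D.ε_sign with e | e <;> rw [e] <;> omega
    · rw [Finset.sum_comm, Finset.sum_congr rfl fun k _ => sum_j_Y D hζ a (hk k).1 (hk k).2,
        card_U D hs]
      simp only [Finset.sum_const, Finset.card_univ, nsmul_eq_mul, Nat.card_eq_fintype_card]
      push_cast
      ring
  · refine ⟨0, by omega, fun _ => rfl, ?_⟩
    rw [Int.cast_zero, zero_mul]
    refine Finset.sum_eq_zero fun j _ => ?_
    have := D.other φ h1 (fun a e => h2 ⟨a, e⟩) j
    rw [← PF.sum_els_eq_finsum] at this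
    rw [← this, ← PF.sum_els_subgroup hs.KK fun k => (φ : G → ℂ) (x ^ (j : ZMod p).val * k)]
    refine Finset.sum_congr ?_ fun _ _ => rfl
    ext y
    simp [hs.mem_KK, mem_CC]

theorem k11_bar [IsSimpleGroup G] {θ : IrrCharacter G} (hθ : dg θ = 22) {y : G}
    (hs : Syl 11 y) : Odd (Nat.card hs.KK) ∧ ∀ a ∈ hs.KK, ∀ b ∈ hs.KK, a * b = b * a := by
  classical
  haveI : Fact (Nat.Prime 11) := ⟨hs.prime⟩
  haveI := Fintype.ofFinite hs.KK
  have h1 : θ ≠ irrOne G := by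
    rintro rfl
    rw [dg_one] at hθ
    omega
  have hna : ∃ a b : G, a * b ≠ b * a := by
    by_contra h
    push Not at h
    haveI : IsMulCommutative G := ⟨⟨h⟩⟩
    have := dg_cast θ
    rw [irr_one_eq_one_of_comm θ.2, hθ] at this
    norm_num at this
  have hμ := isCharacter_eig (irr_isCharacter θ) (M := 11) (by decide) hs.pow_p (one_pow 11)
    hs.KK hs.KK_le_CC
  have hμ' : ∀ c : hs.KK, ((11 : ℕ) : ℂ)⁻¹ *
      ∑ i ∈ Finset.range 11, (1 : ℂ)⁻¹ ^ i * (θ : G → ℂ) (y ^ i * c) =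
      11⁻¹ * (θ : G → ℂ) c := fun c => by
    rw [k11_sum (F := fun i => (θ : G → ℂ) (y ^ i * c)) (f := 0) fun i h0 hi => by
      obtain ⟨a, rfl⟩ := exists_unit h0 hi
      exact dz_val hs (by rw [hθ]; decide) (dvd_orderOf_pow_mul hs a
        (mem_CC.mp (hs.mem_KK.mp c.2).1) (hs.mem_KK.mp c.2).2)]
    simp
  rw [funext hμ'] at hμ
  have hθ1 : (θ : G → ℂ) 1 = 22 := by rw [← dg_cast, hθ]; norm_num
  have hodd : Odd (Nat.card hs.KK) := by
    by_contra h0
    obtain ⟨t, ht⟩ := exists_prime_orderOf_dvd_card' 2 (Nat.not_odd_iff_even.mp h0).two_dvd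
    have ht2 : (t : G) * t = 1 := by
      rw [← sq, ← ht, ← Subgroup.coe_pow, pow_orderOf_eq_one, Subgroup.coe_one]
    have ht1 : (t : G) ≠ 1 := fun h => by
      rw [show t = 1 from Subtype.ext h] at ht
      simp at ht
    have hR := ratl_of_sq ht2
    have e1 : ((11 : ℕ) : ℤ) ∣ cv (t : G) θ :=
      dvd_of_eq_mul_isIntegral (isIntegral_char hμ t) (by rw [cv_cast hR]; push_cast; ring)
    have e2 := cv_mod_four hna ht2 θ
    have e3 := natAbs_cv_lt hna hR ht1 h1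
    rw [hθ] at e2 e3
    omega
  refine ⟨hodd, fun a ha b hb => ?_⟩
  have := comm_of_faithful hμ ((cker_eq_bot_iff hμ).mpr fun g hg => by
    refine Subtype.ext (eq_one_of_eq h1 ?_)
    simpa using hg) (fun ψ hψ hi => by
      have e1 := deg_le_of_inner_ne_zero hμ hψ hi
      rw [Block.charDegree_eq_of_eq (χ := fun c : hs.KK => 11⁻¹ * (θ : G → ℂ) c) (n := 2) (by
        simp only [Subgroup.coe_one, hθ1]; norm_num)] at e1
      have e2 := hodd.of_dvd_nat (deg_dvd_card hψ)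
      obtain ⟨c, hc⟩ := e2
      omega) ⟨a, ha⟩ ⟨b, hb⟩
  exact congrArg Subtype.val this

open scoped _root_.Classical in
theorem k11 (hperf : commutator G = ⊤) (hχ : IsIrrCharacter G χ) (hd : χ 1 = (16 : ℕ))
    (hf : ∀ g, χ g = χ 1 → g = 1)
    (hgal : ∀ r : ℕ, r.Coprime (Nat.card G) → r ≡ 1 [MOD 304] → ∀ g, χ (g ^ r) = χ g)
    [IsSimpleGroup (G ⧸ center G)] {θ : IrrCharacter (G ⧸ center G)} (hθ : dg θ = 22)
    {n : IrrCharacter (G ⧸ center G) → ℕ}
    (hn : ∀ g : G, χ g * conj (χ g) = ∑ φ, (n φ : ℂ) * (φ : G ⧸ center G → ℂ) g)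
    (h4 : ∑ φ ∈ Finset.univ.filter (fun φ => ¬ 11 ∣ dg φ), n φ ≤ 4) : False := by
  have h11 : Nat.Prime 11 := by decide
  haveI : Fact (Nat.Prime 11) := ⟨h11⟩
  have hχ' := isCharacter_of_isIrr hχ
  have hZ : ∀ z ∈ center G, z ^ 16 = 1 := fun z hz => center_pow hperf hχ hd hf hz
  -- step 1
  have hnsq : ¬ 11 ^ 2 ∣ Nat.card G := by
    obtain ⟨P⟩ : Nonempty (Sylow 11 G) := inferInstance
    have := Agent.S4488.pgroup_bound h11 P.isPGroup' (isCharacter_restrict (P : Subgroup G) hχ')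
      (fun g hg => Subtype.ext (hf g hg)) (fun g k hk => by
        obtain ⟨a, ha⟩ := P.isPGroup' g
        have := k11_gal hgal (w := g) (c := 1) (a := a) (by exact_mod_cast congrArg Subtype.val ha)
          (by simp) (Commute.one_right _) hk
        simpa using this) (n := 16) (Block.charDegree_eq_of_eq hd)
    intro h
    have h2 : 11 ^ 2 ∣ Nat.card (P : Subgroup G) := by
      rw [P.card_eq_multiplicity]
      exact pow_dvd_pow _ ((h11.pow_dvd_iff_le_factorization Nat.card_pos.ne').mp h)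
    exact absurd (h2.trans this) (by decide)
  have hdvd : 11 ∣ Nat.card G :=
    ((show 11 ∣ dg θ by rw [hθ]; decide).trans (dg_dvd θ)).trans (card_quotient_dvd_card _)
  obtain ⟨y, hs⟩ := exists_syl hdvd hnsq
  haveI := Fintype.ofFinite hs.KK
  have hk : ∀ k ∈ hs.KK, Commute y k ∧ ¬ 11 ∣ orderOf k := fun k hk =>
    ⟨mem_CC.mp (hs.mem_KK.mp hk).1, (hs.mem_KK.mp hk).2⟩
  have hZ11 : ¬ 11 ∣ Nat.card (center G) := fun h => by
    obtain ⟨z, hz⟩ := exists_prime_orderOf_dvd_card' 11 h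
    have := orderOf_dvd_of_pow_eq_one (hZ z z.2)
    rw [Subgroup.orderOf_coe, hz] at this
    omega
  -- step 2
  have hs' := syl_quotient hs (center G) hZ11
  obtain ⟨hodd, hcomm⟩ := k11_bar hθ hs'
  have hk' : ∀ k ∈ hs.KK, (k : G ⧸ center G) ∈ hs'.KK := fun k hk1 =>
    hs'.mem_KK.mpr ⟨mem_CC.mpr ((hk k hk1).1.map (QuotientGroup.mk' _)), fun h =>
      (hk k hk1).2 (h.trans (orderOf_map_dvd (QuotientGroup.mk' _) k))⟩
  have hab : ∀ a b : hs.KK, a * b = b * a := fun a b => by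
    have e1 : (b * a * (b : G)⁻¹ * (a : G)⁻¹ : G) ∈ center G := by
      rw [← QuotientGroup.eq_one_iff]
      simp only [QuotientGroup.mk_mul, QuotientGroup.mk_inv]
      rw [hcomm _ (hk' _ b.2) _ (hk' _ a.2)]
      group
    have e2 : (a : G) ^ Nat.card hs'.KK ∈ center G := by
      rw [← QuotientGroup.eq_one_iff, QuotientGroup.mk_pow]
      exact congrArg Subtype.val (pow_card_eq_one' (x := (⟨_, hk' _ a.2⟩ : hs'.KK)))
    generalize hw : (b * a * (b : G)⁻¹ * (a : G)⁻¹ : G) = w at e1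
    have e3 : (b * a * (b : G)⁻¹ : G) = w * a := by rw [← hw]; group
    have e4 : w ^ Nat.card hs'.KK = 1 := by
      have e5 := congrArg (· ^ Nat.card hs'.KK) e3
      simp only [conj_pow] at e5
      rw [(show Commute w a from (mem_center_iff.mp e1 a).symm).mul_pow,
        mem_center_iff.mp e2 b, mul_inv_cancel_right] at e5
      exact (right_eq_mul.mp e5)
    have e6 : w = 1 := by
      rw [← orderOf_eq_one_iff]
      exact Nat.eq_one_of_dvd_coprimes
        (show Nat.Coprime (2 ^ 4) _ from (Nat.coprime_two_left.mpr hodd).pow_left 4)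
        (orderOf_dvd_of_pow_eq_one (hZ w e1)) (orderOf_dvd_of_pow_eq_one e4)
    rw [e6, one_mul, mul_inv_eq_iff_eq_mul] at e3
    exact Subtype.ext e3.symm
  -- step 3
  obtain ⟨ζ, hζ⟩ := exists_primRoot 11
  have hval : ∀ k : hs.KK, ∀ i, 0 < i → i < 11 → χ (y ^ i * k) = χ (y * k) := fun k i h0 hi =>
    k11_gal hgal (a := 1) (by rw [pow_one]; exact hs.pow_p) (hk k k.2).2 (hk k k.2).1
      (Nat.coprime_of_lt_prime h0.ne' hi h11).symm
  have hA := isCharacter_eig hχ' (M := 11) (by decide) hs.pow_p (one_pow 11) hs.KK hs.KK_le_CC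
  have hB := isCharacter_eig hχ' (M := 11) (by decide) hs.pow_p hζ.pow_eq_one hs.KK hs.KK_le_CC
  have hA' : ∀ c : hs.KK, ((11 : ℕ) : ℂ)⁻¹ *
      ∑ i ∈ Finset.range 11, (1 : ℂ)⁻¹ ^ i * χ (y ^ i * c) =
      11⁻¹ * (χ c + 10 * χ (y * c)) := fun c => by
    rw [k11_sum (F := fun i => χ (y ^ i * c)) (hval c)]
    simp only [inv_one, one_pow, Finset.sum_const, Finset.card_range, pow_zero, one_mul]
    norm_num
  have hB' : ∀ c : hs.KK, ((11 : ℕ) : ℂ)⁻¹ *
      ∑ i ∈ Finset.range 11, ζ⁻¹ ^ i * χ (y ^ i * c) = 11⁻¹ * (χ c - χ (y * c)) := fun c => by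
    rw [k11_sum (F := fun i => χ (y ^ i * c)) (hval c), hζ.inv.geom_sum_eq_zero (by decide)]
    simp only [pow_zero, one_mul]
    push_cast
    ring
  rw [funext hA'] at hA
  rw [funext hB'] at hB
  obtain ⟨a, ha⟩ := exists_char_one_eq_nat hA
  obtain ⟨b, hb⟩ := exists_char_one_eq_nat hB
  obtain ⟨N, hN, hN'⟩ := k11_norm hab hA hB ha hb
  simp only [Subgroup.coe_one, mul_one, hd] at ha hb
  have hab1 : a + 10 * b = 16 := by
    have : (a : ℂ) + 10 * b = 16 := by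
      rw [← ha, ← hb]
      push_cast
      ring
    exact_mod_cast this
  have hb0 : b ≠ 0 := by
    rintro rfl
    have : y = 1 := hf y (by
      rw [hd]
      push_cast at hb ⊢
      linear_combination -11 * hb)
    have h1 := hs.ord
    rw [this, orderOf_one] at h1
    omega
  have e1 : ∑ j : (ZMod 11)ˣ, ∑ k : hs.KK, χ (y ^ (j : ZMod 11).val * k) *
      conj (χ (y ^ (j : ZMod 11).val * k)) = 10 * (Nat.card hs.KK * N) := by
    rw [Finset.sum_congr rfl (g := fun _ => (Nat.card hs.KK * N : ℂ)) fun j _ => by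
      rw [← hN']
      refine Finset.sum_congr rfl fun k _ => ?_
      rw [hval k _ (ZMod.val_pos.mpr j.ne_zero) (ZMod.val_lt _),
        show 11⁻¹ * (χ k + 10 * χ (y * k)) - 11⁻¹ * (χ k - χ (y * k)) = χ (y * k) by ring],
      Finset.sum_const, Finset.card_univ, nsmul_eq_mul, card_units_cast]
    norm_num
  -- step 4
  choose s hs1 hs2 hs3 using fun φ : IrrCharacter (G ⧸ center G) =>
    k11_S hs ⟨fun g => (φ : G ⧸ center G → ℂ) g, isIrr_infl _ φ.2⟩
  have e2 : ∑ j : (ZMod 11)ˣ, ∑ k : hs.KK, χ (y ^ (j : ZMod 11).val * k) *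
      conj (χ (y ^ (j : ZMod 11).val * k)) = (∑ φ, n φ * s φ : ℤ) * Nat.card hs.KK := by
    simp only [hn]
    rw [Finset.sum_congr rfl fun j _ => Finset.sum_comm, Finset.sum_comm]
    push_cast
    rw [Finset.sum_mul]
    refine Finset.sum_congr rfl fun φ _ => ?_
    rw [mul_assoc, ← hs3 φ, Finset.mul_sum]
    exact Finset.sum_congr rfl fun j _ => (Finset.mul_sum _ _ _).symm
  have e3 : ∑ φ, n φ * s φ = 10 * N := by
    have hK : (Nat.card hs.KK : ℂ) ≠ 0 := by exact_mod_cast Nat.card_pos.ne'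
    have : ((∑ φ, n φ * s φ : ℤ) : ℂ) = 10 * N :=
      mul_right_cancel₀ hK (by rw [← e2, e1]; ring)
    exact_mod_cast this
  have e4 : ∑ φ, n φ * s φ ≤
      10 * (∑ φ ∈ Finset.univ.filter (fun φ => ¬ 11 ∣ dg φ), n φ : ℕ) := by
    rw [Finset.sum_filter]
    push_cast
    rw [Finset.mul_sum]
    refine Finset.sum_le_sum fun φ _ => ?_
    by_cases h : 11 ∣ dg φ
    · rw [hs2 φ h, if_neg (not_not.mpr h)]
      simp
    · rw [if_pos h, mul_comm]
      exact mul_le_mul_of_nonneg_right (by have := hs1 φ; omega) (by positivity)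
  omega

end CfsgLib.Blau
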