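import Cfsg.Agent.Lib.Blau.Str
import Cfsg.Agent.S0899

/-!
Package SPL. Splitting off `O_p(G)`.

`B = pCore p G` is central: `H = Gp p G` is normal, `Gp p H = ⊤`; it is not abelian (it contains
all Sylow subgroups; if it were abelian, two Sylow subgroups would generate a `p`-group
(`IsPGroup.to_sup_of_normal_right'`, `Sylow.is_maximal'`) and `P` would be normal).
`(pCore p H).index` divides `B.index` (`pCore_subgroupOf_le`, `index_dvd_of_le`,
`relIndex_dvd_index_of_normal`). `str` for the restriction of `χ` to `H` gives `ψ` of degree `w`,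
`p ≤ 2 w + 1`; `w ∣ d` (`deg_dvd_of_over`), `d + 2 ≤ p`, so `w = d` and the restriction is `ψ`.
An element of `B` is central in `H` (`commute_pCore`), so in `charCenter χ ≤ center G`.
Take `l` from `exists_tw`, `L = l.ker`. `l` is injective on `B` (`hf`); `L.index = |l.range|` is a
power of `p` dividing `|P| = p |B|` (`P ≠ B`, `p ^ 2 ∤ B.index`), and `B.map l ≤ l.range`.
If `|l.range| = |P|`, `S0899.mem_charCenter_of_complement` makes `P` central. Otherwise
`B.map l = l.range`: `G = L B`, `|L| = B.index`, `Tuan.exists_syl`; if `⟨x⟩` were normal in `L`,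
it would be normal in `G`, so `x ∈ B ⊓ L = ⊥` (`le_pCore`).
-/

set_option autoImplicit false

namespace CfsgLib.Blau

open Cfsg CfsgLib.Char CfsgLib.ChDeg CfsgLib.DefectOne CfsgLib.DefectOne.B43 CfsgLib.Tuan
  CfsgLib.LowDeg CfsgLib.LowD2 CfsgLib.FewSyl CfsgLib.ChTab Subgroup
open scoped ComplexConjugate MatrixGroups commutatorElement

variable {G : Type*} [Group G] [Finite G] {p : ℕ} [hp : Fact p.Prime] {χ : G → ℂ} {d : ℕ}

theorem split_hna (P : Sylow p G) (hP : ¬ (P : Subgroup G).Normal) :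
    ∃ a b : Gp p G, ¬ Commute a b := by
  by_contra! h
  refine hP ⟨fun x hx g => ?_⟩
  have h1 := (PE.of_mem P.isPGroup' hx).conj g
  have h2 : zpowers (g * x * g⁻¹) ≤ normalizer ((P : Subgroup G) : Set G) :=
    zpowers_le.2 (centralizer_le_normalizer _ (mem_centralizer_iff.2 fun y hy =>
      congrArg Subtype.val (h ⟨y, mem_Gp (PE.of_mem P.isPGroup' hy)⟩ ⟨_, mem_Gp h1⟩).eq))
  rw [← P.is_maximal' (h1.isPGroup.to_sup_of_normal_right' P.isPGroup' h2) le_sup_right]
  exact mem_sup_left (mem_zpowers _)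

theorem split_cent (hχ : IsIrrCharacter G χ) (hd : χ 1 = d) (hdp : d + 2 ≤ p)
    (hf : ∀ g, χ g = χ 1 → g = 1) (hsq : ¬ p ^ 2 ∣ (pCore p G).index) (P : Sylow p G)
    (hP : ¬ (P : Subgroup G).Normal) : pCore p G ≤ center G := by
  have hχc := isCharacter_of_isIrr hχ
  haveI : (Gp p G).Normal := Gp_normal
  haveI := Fintype.ofFinite G
  haveI := Fintype.ofFinite (Gp p G)
  have hG : Gp p (Gp p G) = ⊤ := Gp_closure fun g h => h
  obtain ⟨ψ, φ, w, hψ, hφ, he, hw, -, hc, hpw, -⟩ := str hG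
    (isCharacter_restrict _ hχc) hd hdp (fun g hg => Subtype.ext (hf g hg))
    (fun h => hsq (h.trans ((index_dvd_of_le (Core.pCore_subgroupOf_le _)).trans
      (relIndex_dvd_index_of_normal _ _)))) (split_hna P hP)
  have hi : classInner (fun n : Gp p G => χ n) ψ ≠ 0 := by
    obtain ⟨n, hn⟩ := exists_classInner_eq_nat hφ (isCharacter_of_isIrr hψ)
    rw [he, classInner_add_left, classInner_irr_self hψ, hn]
    exact_mod_cast (by omega : 1 + n ≠ 0)
  have h1 := deg_dvd_of_over _ hχ hψ hi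
  have h2 := deg_pos hχ
  have h3 := res_eq_of_deg_eq _ hχc hψ hi
  rw [Block.charDegree_eq_of_eq hd] at h1 h2 h3
  rw [Block.charDegree_eq_of_eq hw] at h1 h3
  have h4 : d ≤ w := by
    obtain ⟨k, rfl⟩ := h1
    have : k < 2 := by
      by_contra! hk
      have := Nat.mul_le_mul_left w hk
      omega
    interval_cases k <;> omega
  intro b hb
  have hb' : b ∈ Gp p G := mem_Gp (PE.of_mem (Core.isPGroup_pCore p G) hb)
  have h5 : (⟨b, hb'⟩ : Gp p G) ∈ charCenter ψ := by
    rw [hc, mem_center_iff]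
    exact fun g => Subtype.ext (commute_pCore hχc hd (by omega) hf hb g.2).eq.symm
  rw [mem_charCenter (isCharacter_of_isIrr hψ), ← h3 h4] at h5
  exact charCenter_le_center_of_faithful (isClassFunction_of_isCharacter hχc)
    (by rw [← cker_eq_charKer hχc, cker_eq_bot_iff hχc]; exact hf) ((mem_charCenter hχc).2 h5)

theorem split (hχ : IsIrrCharacter G χ) (hd : χ 1 = d) (hdp : d + 2 ≤ p)
    (hf : ∀ g, χ g = χ 1 → g = 1) (hsq : ¬ p ^ 2 ∣ (pCore p G).index) (P : Sylow p G)
    (hP : ¬ (P : Subgroup G).Normal) :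
    ∃ (L : Subgroup G) (x : L), Syl p x ∧ ¬ (zpowers x).Normal ∧
      ∀ g : G, ∃ y ∈ L, y⁻¹ * g ∈ center G := by
  have hχc := isCharacter_of_isIrr hχ
  have hB := split_cent hχ hd hdp hf hsq P hP
  have hBp := Core.isPGroup_pCore p G
  obtain ⟨l, hl, N, hN⟩ := exists_tw hχ hd (show d < p by omega)
  have hinj : ∀ b ∈ pCore p G, l b = 1 → b = 1 := fun b hb h => hf b (by
    rw [hl b (PE.of_mem hBp hb) (center_le_charCenter hχ (hB hb)), h, hd]
    simp)
  haveI : Finite l.range := Finite.of_surjective _ l.rangeRestrict_surjective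
  have hR : IsPGroup p l.range := by
    rintro ⟨_, g, rfl⟩
    exact ⟨N, Subtype.ext (hN g)⟩
  obtain ⟨k, hk⟩ := IsPGroup.iff_card.1 hR
  obtain ⟨b, hb⟩ := IsPGroup.iff_card.1 hBp
  have ha := P.card_eq_multiplicity
  generalize hα : (Nat.card G).factorization p = a at ha
  have hpow : ∀ i, p ^ i ∣ Nat.card G ↔ i ≤ a := fun i => by
    rw [← hα]
    exact hp.out.pow_dvd_iff_le_factorization Nat.card_pos.ne'
  have hL : Nat.card l.ker * p ^ k = Nat.card G := by
    rw [← hk, ← index_ker, card_mul_index]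
  have hG : p ^ b * (pCore p G).index = Nat.card G := by rw [← hb, card_mul_index]
  have hmap : Nat.card ((pCore p G).map l) = p ^ b := by
    rw [← hb, ← l.domRestrict_range]
    exact (Nat.card_congr (MonoidHom.ofInjective ((injective_iff_map_eq_one _).2
      fun c hc => Subtype.ext (hinj c c.2 hc))).toEquiv).symm
  have h1 : b ≤ k := by
    rw [← Nat.pow_dvd_pow_iff_le_right hp.out.one_lt, ← hmap, ← hk]
    exact card_dvd_of_le (map_le_range l _)
  have h2 : k ≤ a := (hpow k).1 (Dvd.intro_left _ hL)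
  have h3 : a ≤ b + 1 := by
    by_contra! h
    have := (hpow (b + 2)).2 h
    rw [← hG, pow_add] at this
    exact hsq (Nat.dvd_of_mul_dvd_mul_left (pow_pos hp.out.pos b) this)
  have hka : k ≠ a := by
    rintro rfl
    have := Agent.S0899.mem_charCenter_of_complement l.ker P (fun h => by
      have := (hpow (k + 1)).1 (by
        rw [← hL, pow_succ']
        exact Nat.mul_dvd_mul_right h _)
      omega) P.isPGroup' (by rw [index_ker, hk, ha]) hχ hd (by omega)
    have h4 := this.trans (charCenter_le_center_of_faithful (isClassFunction_of_isCharacter hχc)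
      (by rw [← cker_eq_charKer hχc, cker_eq_bot_iff hχc]; exact hf))
    exact hP ⟨fun x hx g => by rwa [mem_center_iff.1 (h4 hx) g, mul_inv_cancel_right]⟩
  obtain rfl : k = b := by omega
  obtain rfl : a = k + 1 := by omega
  have h5 : (pCore p G).map l = l.range :=
    eq_of_le_of_card_ge (map_le_range l _) (by rw [hmap, hk])
  have hgen : ∀ g : G, ∃ y ∈ l.ker, y⁻¹ * g ∈ center G := fun g => by
    obtain ⟨c, hc, e⟩ : l g ∈ (pCore p G).map l := h5 ▸ ⟨g, rfl⟩
    refine ⟨g * c⁻¹, by rw [MonoidHom.mem_ker, map_mul, map_inv, e, mul_inv_cancel], ?_⟩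
    simpa using hB hc
  have h6 : Nat.card l.ker = (pCore p G).index :=
    Nat.eq_of_mul_eq_mul_right (pow_pos hp.out.pos k) (by rw [hL, mul_comm, hG])
  obtain ⟨x, hx⟩ := exists_syl (G := l.ker) (p := p) (by
    have := (hpow (k + 1)).2 le_rfl
    rw [← hL, pow_succ'] at this
    exact Nat.dvd_of_mul_dvd_mul_right (pow_pos hp.out.pos k) this) (h6 ▸ hsq)
  refine ⟨l.ker, x, hx, fun hn => ?_, hgen⟩
  haveI : (zpowers (x : G)).Normal := ⟨fun u hu g => by
    obtain ⟨y, hy, hz⟩ := hgen g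
    obtain ⟨n, rfl⟩ := mem_zpowers_iff.1 hu
    obtain ⟨m, hm⟩ := mem_zpowers_iff.1 (hn.conj_mem _ (zpow_mem_zpowers x n) ⟨y, hy⟩)
    refine mem_zpowers_iff.2 ⟨m, ?_⟩
    have e1 : (x : G) ^ m = y * (x : G) ^ n * y⁻¹ := by simpa using congrArg Subtype.val hm
    rw [e1, show g * (x : G) ^ n * g⁻¹ = y * (y⁻¹ * g * (x : G) ^ n) * g⁻¹ by group,
      ← mem_center_iff.1 hz]
    group⟩
  have h7 : PE p (x : G) := ⟨1, by rw [pow_one]; exact_mod_cast congrArg Subtype.val hx.pow_p⟩
  have h8 : x = 1 := Subtype.ext (hinj x (Core.le_pCore h7.isPGroup (mem_zpowers _)) x.2)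
  have := hx.ord
  rw [h8, orderOf_one] at this
  exact hp.out.one_lt.ne this

end CfsgLib.Blau
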