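import Cfsg.Agent.Lib.Blau.Em

/-!
Package NEAR. An element with two eigenvalues at distance less than one commutes with its
conjugates (Frobenius).

Model: the proof of `hcomm` in `S4471.part1` (`exists_isometric_rep`, `exists_eigen_norm_eq`,
`ChDeg.commute_of_near`, `norm_repCLM_conj_sub`), which needs the eigenvalue 1. Twist: let
`Γ = G × rootsOfUnity M ℂ` act by `ρ' (g, t) = t • ρ g` (isometric), pass to `Γ ⧸ ρ'.ker`
(`QuotientGroup.kerLift`, injective), and use `c' = (c, α⁻¹)`, with eigenvalues among `1, β / α`: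
`‖ρ' c' - 1‖ < 1` and `‖ρ' c' - (1 + β / α) / 2‖ < 1 / 2`. An eigenvalue `μ` of `ρ c` is `α` or
`β`: by `em_rep` and `h` the two eigenspaces span, and `Module.End.eigenspaces_iSupIndep`.
If `d = 0` the group is trivial.
-/

set_option autoImplicit false

namespace CfsgLib.Blau

open Cfsg CfsgLib.Char CfsgLib.ChDeg CfsgLib.DefectOne CfsgLib.DefectOne.B43 CfsgLib.Tuan
  CfsgLib.LowDeg CfsgLib.LowD2 CfsgLib.FewSyl CfsgLib.ChTab Subgroup
open scoped ComplexConjugate MatrixGroups commutatorElement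

theorem near_eig {V : Type*} [AddCommGroup V] [Module ℂ V] [FiniteDimensional ℂ V]
    (f : Module.End ℂ V) {α β μ : ℂ} (hne : α ≠ β)
    (h : Module.finrank ℂ V ≤ Module.finrank ℂ (f.eigenspace α) + Module.finrank ℂ (f.eigenspace β))
    {v : V} (hv : v ≠ 0) (hμ : f v = μ • v) : μ = α ∨ μ = β := by
  by_contra! H
  have hi := Module.End.eigenspaces_iSupIndep f
  rw [← Submodule.finrank_sup_add_finrank_inf_eq, disjoint_iff.1 (hi.pairwiseDisjoint hne),
    finrank_bot, add_zero] at h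
  have h1 : f.eigenspace α ⊔ f.eigenspace β = ⊤ :=
    Submodule.eq_top_of_finrank_eq (le_antisymm (Submodule.finrank_le _) h)
  have h2 : f.eigenspace α ⊔ f.eigenspace β ≤ ⨆ (ν : ℂ) (_ : ν ≠ μ), f.eigenspace ν :=
    sup_le (le_iSup₂_of_le α H.1.symm le_rfl) (le_iSup₂_of_le β H.2.symm le_rfl)
  exact hv ((Submodule.disjoint_def.1 (hi μ)) v (Module.End.mem_eigenspace_iff.2 hμ)
    (h2 (h1 ▸ Submodule.mem_top)))

theorem near_ker {Γ : Type*} [Group Γ] [Finite Γ] {E : Type*} [NormedAddCommGroup E]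
    [InnerProductSpace ℂ E] [FiniteDimensional ℂ E] [Nontrivial E] (ρ : Representation ℂ Γ E)
    (hρ : ∀ g v, ‖ρ g v‖ = ‖v‖) {c : Γ} {ζ : ℂ} (h1 : ‖ζ - 1‖ < 1)
    (h : ∀ (μ : ℂ) (v : E), v ≠ 0 → ρ c v = μ • v → μ = 1 ∨ μ = ζ) (g : Γ) :
    ρ (g * c * g⁻¹ * c) = ρ (c * (g * c * g⁻¹)) := by
  let σ : Representation ℂ (Γ ⧸ MonoidHom.ker ρ) E := QuotientGroup.lift _ ρ le_rfl
  have hσ : ∀ q v, ‖σ q v‖ = ‖v‖ := fun q v => by
    obtain ⟨a, rfl⟩ := QuotientGroup.mk_surjective q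
    exact hρ a v
  have hinj : Function.Injective σ := (injective_iff_map_eq_one σ).2 fun q hq => by
    obtain ⟨a, rfl⟩ := QuotientGroup.mk_surjective q
    exact (QuotientGroup.eq_one_iff a).2 hq
  have hev : ∀ t : ℂ, ‖repCLM σ c - t • 1‖ = ‖1 - t‖ ∨ ‖repCLM σ c - t • 1‖ = ‖ζ - t‖ := by
    intro t
    obtain ⟨μ, v, hv, hv', e⟩ := exists_eigen_norm_eq σ hσ c t
    rcases h μ v hv hv' with rfl | rfl
    · exact Or.inl e
    · exact Or.inr e
  have hc : Commute ((g : Γ ⧸ MonoidHom.ker ρ) * c * (g : Γ ⧸ MonoidHom.ker ρ)⁻¹) c := by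
    refine commute_of_near σ hσ hinj (c := (1 + ζ) / 2)
      ((norm_repCLM_conj_sub σ hσ c g _).trans_lt ?_) ?_
    · rcases hev ((1 + ζ) / 2) with e | e
      · rw [e, show 1 - (1 + ζ) / 2 = -(ζ - 1) / 2 by ring, norm_div, norm_neg]
        simpa using by linarith
      · rw [e, show ζ - (1 + ζ) / 2 = (ζ - 1) / 2 by ring, norm_div]
        simpa using by linarith
    · rcases hev 1 with e | e <;> rw [one_smul] at e <;> rw [e]
      · simp
      · exact h1
  exact congrArg σ hc.eq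

variable {G : Type*} [Group G] [Finite G] {χ : G → ℂ} {d : ℕ}

theorem near (hχ : IsCharacter G χ) (hd : χ 1 = d) (hf : ∀ g, χ g = χ 1 → g = 1) {c : G}
    {α β : ℂ} (hne : α ≠ β) (h : d ≤ em χ c α + em χ c β) {M : ℕ} (hM : M ≠ 0) (hα : α ^ M = 1)
    (hn : ‖α - β‖ < 1) (g : G) : Commute (g * c * g⁻¹) c := by
  obtain ⟨n, ρ, rfl, hρ⟩ := exists_isometric_rep hχ
  have hinj := injective_of_faithful ρ hf
  rcases subsingleton_or_nontrivial (EuclideanSpace ℂ (Fin n)) with hs | hs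
  · exact hinj (Subsingleton.elim _ _)
  haveI : NeZero M := ⟨hM⟩
  have h0 : α ≠ 0 := by rintro rfl; simp [hM] at hα
  have hα1 : ‖α‖ = 1 := Complex.norm_eq_one_of_pow_eq_one hα hM
  rw [em_rep, em_rep] at h
  rw [Representation.char_one, Nat.cast_inj] at hd
  let ρ' : Representation ℂ (G × rootsOfUnity M ℂ) (EuclideanSpace ℂ (Fin n)) :=
    { toFun := fun a => ((a.2 : ℂˣ) : ℂ) • ρ a.1
      map_one' := by simp
      map_mul' := fun a b => by simp [smul_smul, mul_comm] }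
  let u : rootsOfUnity M ℂ := ⟨(Units.mk0 α h0)⁻¹, by
    rw [mem_rootsOfUnity, inv_pow, inv_eq_one]
    exact Units.ext (by simpa using hα)⟩
  have h1 := near_ker ρ' (fun a v => by
    change ‖((a.2 : ℂˣ) : ℂ) • ρ a.1 v‖ = _
    rw [norm_smul, hρ, Complex.norm_eq_one_of_pow_eq_one (n := M)
      (congrArg Units.val ((mem_rootsOfUnity _ _).1 a.2.2)) hM, one_mul]) (c := (c, u)) (ζ := α⁻¹ * β)
    (by
      rw [show α⁻¹ * β - 1 = -(α⁻¹ * (α - β)) by field_simp; ring, norm_neg, norm_mul, norm_inv,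
        hα1, inv_one, one_mul]
      exact hn)
    (fun μ v hv hμ => by
      have h2 : ρ c v = (α * μ) • v := by
        change α⁻¹ • ρ c v = _ at hμ
        rw [mul_smul, ← hμ, smul_inv_smul₀ h0]
      rcases near_eig (ρ c) hne (hd ▸ h) hv h2 with e | e
      · exact Or.inl (mul_left_cancel₀ h0 (by rw [e, mul_one]))
      · exact Or.inr (by rw [← e, inv_mul_cancel_left₀ h0])) (g, 1)
  change (((1 * u * 1⁻¹ * u : rootsOfUnity M ℂ) : ℂˣ) : ℂ) • ρ (g * c * g⁻¹ * c) =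
    (((u * (1 * u * 1⁻¹) : rootsOfUnity M ℂ) : ℂˣ) : ℂ) • ρ (c * (g * c * g⁻¹)) at h1
  rw [mul_comm u] at h1
  exact hinj (smul_right_injective _ (Units.ne_zero _) h1)

end CfsgLib.Blau
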