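import Cfsg.Agent.Lib.Blau.Val

/-!
Package QUO. The case `d + e = p`: passage to the derived group and to the central quotient.

`center_pow`: `detChar χ` is a homomorphism (`exists_hom_detChar`), trivial on a perfect group;
`detChar_of_norm_eq` gives `(χ z / χ 1) ^ d = 1`, and `χ (z ^ d) = (χ z / χ 1) ^ d χ 1`
(`char_mul_of_norm_eq`).
`quot_center_equiv`: as at the end of the proof of `LowDeg.l2p`.
`der`: `mem_center_of_ee` (`ee x ≠ 1`), `mem_commutator_of_ee`, `valB`, `le_ee_normal`,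
`half_ee_le`, `exists_mul_center`, `perfect_commutator`.
`quo`: `Z = center G = KK` has order prime to `p` (`syl_quotient`). If `g x g⁻¹ = x ^ a z` with
`z ∈ Z` then `z ^ p = 1` (take `p`-th powers), so `z = 1`. Hence the preimage of `CC x̄` is
`CC x = ⟨x⟩ Z` (`SC`), the preimage of `NN x̄` is `NN x`, and `ee x̄ = ee x` (`relIndex_comap`,
`comap` along the surjection `mk'`; or `mem_U`, `card_U` of `PrinData`). Perfect: `der`.
Simple: a normal subgroup `M ≥ Z` of `G` of order prime to `p` lies in `CC x`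
(`le_CC_of_normal`), so in `KK = Z`; otherwise `x ∈ M` (`mem_of_normal`) and `G = M Z = M`
(`le_ee_normal`, `exists_mul_center`). `χ * conj χ` is a character with `Z` in its kernel:
`exists_char_quotient`, `exists_char_eq_sum_nat`; `n 1 = ⟨χ, χ⟩ = 1` (inner products are kept by
inflation: `classInner_comp_surjective` or similar).
-/

set_option autoImplicit false

namespace CfsgLib.Blau

open Cfsg CfsgLib.Char CfsgLib.ChDeg CfsgLib.DefectOne CfsgLib.DefectOne.B43 CfsgLib.Tuan
  CfsgLib.LowDeg CfsgLib.LowD2 CfsgLib.FewSyl CfsgLib.ChTab Subgroup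
open scoped ComplexConjugate MatrixGroups commutatorElement

variable {G : Type*} [Group G] [Finite G] {p : ℕ} [hp : Fact p.Prime] {x : G} {χ : G → ℂ} {d : ℕ}

omit hp in
theorem center_pow (hperf : commutator G = ⊤) (hχ : IsIrrCharacter G χ) (hd : χ 1 = d)
    (hf : ∀ g, χ g = χ 1 → g = 1) {z : G} (hz : z ∈ center G) : z ^ d = 1 := by
  have hχ' := isCharacter_of_isIrr hχ
  have hn := norm_of_mem_center (PF.isIrr_top.2 hχ) hz
  obtain ⟨μ, hμ⟩ := CharDeep.exists_hom_detChar χ
  have h1 : μ z = 1 := Abelianization.commutator_subset_ker μ (hperf ▸ mem_top z)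
  have h2 := detChar_of_norm_eq hχ' hn
  rw [hμ, h1, Block.charDegree_eq_of_eq hd] at h2
  have h3 : ∀ k : ℕ, χ (z ^ k) = (χ z / χ 1) ^ k * χ 1 := fun k => by
    induction k with
    | zero => simp
    | succ k ih => rw [pow_succ', char_mul_of_norm_eq hχ' hn, ih, pow_succ', mul_assoc]
  exact hf _ (by rw [h3, ← h2, Units.val_one, one_mul])

omit [Finite G] hp in
theorem quot_center_equiv {L : Subgroup G} (h : ∀ g : G, ∃ y ∈ L, y⁻¹ * g ∈ center G) :
    Nonempty (G ⧸ center G ≃* L ⧸ center L) := by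
  let f := (QuotientGroup.mk' (center G)).comp L.subtype
  have h6 : Function.Surjective f := by
    intro q
    obtain ⟨g, rfl⟩ := QuotientGroup.mk_surjective q
    obtain ⟨y, hy, h⟩ := h g
    exact ⟨⟨y, hy⟩, QuotientGroup.eq.2 h⟩
  have h7 : f.ker = center _ := by
    ext a
    rw [MonoidHom.mem_ker, MonoidHom.comp_apply, QuotientGroup.mk'_apply, QuotientGroup.eq_one_iff,
      mem_center_iff, mem_center_iff]
    refine ⟨fun h b => Subtype.ext (h b), fun h0 g => ?_⟩
    obtain ⟨y, hy, h'⟩ := h g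
    have h8 : y * a = a * y := congrArg Subtype.val (h0 ⟨y, hy⟩)
    rw [coe_subtype, ← mul_inv_cancel_left y g, mul_assoc, ← mem_center_iff.1 h', ← mul_assoc, h8,
      mul_assoc]
  exact ⟨(QuotientGroup.quotientKerEquivOfSurjective f h6).symm.trans
    (QuotientGroup.quotientMulEquivOfEq h7)⟩

theorem der (hs : Syl p x) (hnn : ¬ (zpowers x).Normal) (hχ : IsIrrCharacter G χ) (hd : χ 1 = d)
    (hdp : d + 2 ≤ p) (hf : ∀ g, χ g = χ 1 → g = 1) (hB : d + ee x = p) :
    ∃ hx : x ∈ commutator G, commutator (commutator G) = ⊤ ∧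
      (∀ g : G, ∃ y ∈ commutator G, y⁻¹ * g ∈ center G) ∧
      ee (⟨x, hx⟩ : commutator G) = ee x := by
  have hx := mem_commutator_of_ee hs (by omega)
  obtain ⟨hK, h2, -⟩ := valB hs hnn hχ hd hdp hf hB
  have h5 := le_ee_normal hs hnn (isCharacter_of_isIrr hχ) hd hdp hf hB h2 hx
  have h6 := exists_mul_center hs hK.le hx h5
  exact ⟨hx, perfect_commutator h6, h6, le_antisymm (half_ee_le hs hx) h5⟩

omit hp in
theorem quo_conj (hs : Syl p x) (hK : hs.KK = center G) {g : G} {k : ℕ}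
    (h : ((g * x * g⁻¹ : G) : G ⧸ center G) = (x ^ k : G)) : g * x * g⁻¹ = x ^ k := by
  have hz : (x ^ k)⁻¹ * (g * x * g⁻¹) ∈ center G := QuotientGroup.eq.1 h.symm
  obtain ⟨z, e⟩ : ∃ z, z = (x ^ k)⁻¹ * (g * x * g⁻¹) := ⟨_, rfl⟩
  rw [← e] at hz
  have e' : g * x * g⁻¹ = x ^ k * z := by rw [e, mul_inv_cancel_left]
  have h1 : (x ^ k * z) ^ p = 1 := by rw [← e', conj_pow, hs.pow_p, mul_one, mul_inv_cancel]
  rw [Commute.mul_pow (mem_center_iff.1 hz _), ← pow_mul, mul_comm k, pow_mul, hs.pow_p, one_pow,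
    one_mul] at h1
  have h2 : ¬ p ∣ orderOf z := (hK ▸ hz : z ∈ hs.KK).2
  rcases (Nat.dvd_prime hs.prime).1 (orderOf_dvd_of_pow_eq_one h1) with h3 | h3
  · rw [e', orderOf_eq_one_iff.1 h3, mul_one]
  · exact absurd h3.symm.dvd h2

omit hp in
theorem quo_CC (hs : Syl p x) (hK : hs.KK = center G) :
    (CC (x : G ⧸ center G)).comap (QuotientGroup.mk' (center G)) = CC x := by
  ext g
  rw [mem_comap, mem_CC, mem_CC]
  refine ⟨fun h => ?_, fun h => h.map (QuotientGroup.mk' (center G))⟩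
  have h1 := quo_conj hs hK (g := g) (k := 1) (by
    rw [pow_one, QuotientGroup.mk_mul, QuotientGroup.mk_mul, QuotientGroup.mk_inv,
      mul_inv_eq_iff_eq_mul]
    exact h.symm)
  rw [pow_one, mul_inv_eq_iff_eq_mul] at h1
  exact h1.symm

omit hp in
theorem quo_NN (hs : Syl p x) (hK : hs.KK = center G) :
    (NN (x : G ⧸ center G)).comap (QuotientGroup.mk' (center G)) = NN x := by
  ext g
  rw [mem_comap]
  refine ⟨fun h => ?_, fun h => ?_⟩
  · obtain ⟨k, hk⟩ := exists_pow_eq_of_mem_zpowers (conj_mem_zpowers h (mem_zpowers _))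
    have h1 := quo_conj hs hK (g := g) (k := k) hk.symm
    exact hs.mem_NN_of_conj_mem (mem_zpowers x) hs.ne_one
      (h1 ▸ pow_mem (CC_le_NN x (self_mem_CC x)) k)
  · have h1 := le_normalizer_map (H := zpowers x) (QuotientGroup.mk' (center G))
      (mem_map_of_mem _ h)
    rwa [MonoidHom.map_zpowers] at h1

omit hp in
theorem quo_ee (hs : Syl p x) (hK : hs.KK = center G) : ee (x : G ⧸ center G) = ee x := by
  rw [ee, ee, ← quo_CC hs hK, relIndex_comap, ← quo_NN hs hK,
    map_comap_eq_self_of_surjective (QuotientGroup.mk'_surjective _)]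

omit hp in
theorem quo_sc (hs : Syl p x) (hK : hs.KK = center G) : SC p (x : G ⧸ center G) := by
  have hZ : ¬ p ∣ Nat.card (center G) := fun h =>
    (hK ▸ mem_of_normal hs _ h : x ∈ hs.KK).2 hs.ord.symm.dvd
  refine ⟨hs.prime, (syl_quotient hs _ hZ).ord, le_antisymm (fun c hc => ?_) (zpowers_le_CC _)⟩
  obtain ⟨g, rfl⟩ := QuotientGroup.mk_surjective c
  have hg : g ∈ CC x := quo_CC hs hK ▸ hc
  obtain ⟨i, y, hy, rfl⟩ := hs.exists_pow_mul hg
  rw [QuotientGroup.mk_mul, (QuotientGroup.eq_one_iff y).2 (hK ▸ hy), mul_one, QuotientGroup.mk_pow]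
  exact pow_mem (mem_zpowers _) i

theorem quo (hs : Syl p x) (hnn : ¬ (zpowers x).Normal) (hχ : IsIrrCharacter G χ) (hd : χ 1 = d)
    (hdp : d + 2 ≤ p) (hf : ∀ g, χ g = χ 1 → g = 1) (hB : d + ee x = p) :
    ee (x : G ⧸ center G) = ee x ∧ ∃ n : IrrCharacter (G ⧸ center G) → ℕ,
      Psi p (x : G ⧸ center G) d n ∧
      ∀ g : G, χ g * conj (χ g) = ∑ φ, (n φ : ℂ) * (φ : G ⧸ center G → ℂ) g := by
  have hχ' := isCharacter_of_isIrr hχ
  obtain ⟨hK, -, hsum, -⟩ := valB hs hnn hχ hd hdp hf hB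
  obtain ⟨-, -, h5, -⟩ := der hs hnn hχ hd hdp hf hB
  have he := quo_ee hs hK
  have sc := quo_sc hs hK
  have hZ : ¬ p ∣ Nat.card (center G) := fun h =>
    (hK ▸ mem_of_normal hs _ h : x ∈ hs.KK).2 hs.ord.symm.dvd
  have hperf : commutator (G ⧸ center G) = ⊤ := eq_top_iff.2 fun q _ => by
    obtain ⟨g, rfl⟩ := QuotientGroup.mk_surjective q
    obtain ⟨y, hy, h⟩ := h5 g
    rw [← QuotientGroup.eq.2 h]
    have h1 : commutator G ≤ (commutator (G ⧸ center G)).comap (QuotientGroup.mk' (center G)) :=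
      commutator_le.2 fun a _ b _ => by
        rw [mem_comap, map_commutatorElement]
        exact commutator_mem_commutator (mem_top _) (mem_top _)
    exact h1 hy
  have hO : pPrimeCore p (G ⧸ center G) = ⊥ := by
    have := Core.pPrimeCore_characteristic p G
    have h1 := Core.not_dvd_card_pPrimeCore hs.prime G
    rw [← Core.map_mk'_pPrimeCore (hs.prime.coprime_iff_not_dvd.2 hZ).symm,
      Subgroup.map_eq_bot_iff, QuotientGroup.ker_mk', ← hK]
    exact fun g hg => hs.mem_KK.2 ⟨le_CC_of_normal hs hχ' hd hdp hf _ h1 hg,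
      fun h => h1 (h.trans (orderOf_dvd_natCard _ hg))⟩
  obtain ⟨ψ, hψ, h6⟩ := exists_char_quotient (center G)
    (isCharacter_mul hχ' (isCharacter_conj hχ')) fun g hg => by
      simp only [Pi.mul_apply, Complex.mul_conj', norm_of_mem_center (PF.isIrr_top.2 hχ) hg]
  simp only [Pi.mul_apply] at h6
  have := Fintype.ofFinite G
  have := Fintype.ofFinite (G ⧸ center G)
  obtain ⟨n, hn, h7⟩ := exists_char_eq_sum_nat hψ
  have h8 : ∀ q, ∑ φ, (n φ : ℂ) * (φ : G ⧸ center G → ℂ) q = ψ q := fun q => by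
    rw [h7, Finset.sum_apply]
    rfl
  refine ⟨he, n, ⟨sc, sc.isSimpleGroup hperf hO, hperf, ?_, ?_, ?_, fun q => ?_⟩,
    fun g => by rw [h8, h6]⟩
  · have h9 := hn (irrOne _)
    rw [← classInner_comp_of_surjective (QuotientGroup.mk' (center G))
      (QuotientGroup.mk'_surjective _)] at h9
    have h10 := classInner_irr_self hχ
    simp only [classInner_def, QuotientGroup.mk'_apply, h6, irrOne_apply, map_one, mul_one] at h9 h10
    exact_mod_cast h9.symm.trans h10
  · have h9 := h8 ((1 : G) : G ⧸ center G)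
    rw [h6, hd, map_natCast, QuotientGroup.mk_one] at h9
    simp only [← dg_cast] at h9
    rw [sq]
    exact_mod_cast h9
  · rw [he, ← hsum]
    exact Finset.sum_congr rfl fun j _ => by rw [h8, ← QuotientGroup.mk_pow, h6]
  · obtain ⟨g, rfl⟩ := QuotientGroup.mk_surjective q
    exact ⟨Complex.normSq (χ g), Complex.normSq_nonneg _, by rw [h8, h6, Complex.mul_conj]⟩

end CfsgLib.Blau
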