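import Cfsg.Agent.Lib.Blau.Str
import Cfsg.Agent.Lib.Blau.Near
import Cfsg.Agent.S0898

/-!
Feit: a group with a faithful character of degree `≤ p - 2` has `p ^ 2 ∤ [G : O_p(G)]`.
-/

set_option autoImplicit false

namespace CfsgLib.Blau

open Cfsg CfsgLib.Char CfsgLib.ChDeg CfsgLib.DefectOne CfsgLib.DefectOne.B43 CfsgLib.Tuan
  CfsgLib.LowDeg CfsgLib.LowD2 CfsgLib.FewSyl CfsgLib.ChTab Subgroup
open scoped ComplexConjugate MatrixGroups commutatorElement

variable {G : Type*} [Group G] {p : ℕ} {x : G} {χ : G → ℂ} {d : ℕ} {μ : ℂ}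

theorem PE.mem_pCore (hx : PE p x) (h : ∀ g, Commute (g * x * g⁻¹) x) : x ∈ pCore p G := by
  obtain ⟨k, hk⟩ := hx
  have h1 : ∀ a ∈ Group.conjugatesOfSet ({x} : Set G), ∃ g, g * x * g⁻¹ = a := fun a ha => by
    obtain ⟨b, hb, ha⟩ := Group.mem_conjugatesOfSet_iff.1 ha
    exact isConj_iff.1 (Set.mem_singleton_iff.1 hb ▸ ha)
  have hA : IsMulCommutative (normalClosure ({x} : Set G)) :=
    isMulCommutative_closure fun a ha b hb => by
      obtain ⟨g, rfl⟩ := h1 a ha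
      obtain ⟨k, rfl⟩ := h1 b hb
      have := (h (k⁻¹ * g)).map (MulAut.conj k)
      simpa [mul_assoc, Commute, SemiconjBy] using this
  refine Core.le_pCore (N := normalClosure {x}) (fun a => ⟨k, Subtype.ext ?_⟩)
    (subset_normalClosure rfl)
  refine closure_induction (p := fun a _ => a ^ p ^ k = 1) (fun a ha => ?_) (one_pow _)
    (fun a b ha hb h2 h3 => ?_) (fun a _ h2 => by rw [inv_pow, h2, inv_one]) a.2
  · obtain ⟨g, rfl⟩ := h1 a ha
    rw [conj_pow, hk, mul_one, mul_inv_cancel]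
  · rw [Commute.mul_pow (congrArg Subtype.val (hA.1.1 ⟨a, ha⟩ ⟨b, hb⟩)), h2, h3, one_mul]

theorem PE.mul {a b : G} (ha : PE p a) (hb : PE p b) (h : Commute a b) : PE p (a * b) := by
  obtain ⟨i, hi⟩ := ha
  obtain ⟨j, hj⟩ := hb
  exact ⟨i + j, by rw [h.mul_pow, pow_add, pow_mul, hi, mul_comm (p ^ i), pow_mul, hj]; simp⟩

theorem exists_norm_lt {η : ℂ} (h : η ^ 5 = 1) (h1 : η ≠ 1) :
    ∃ i : ℕ, ‖1 + η ^ i‖ < 1 ∧ η ^ (2 * i) ≠ 1 := by
  have h2 : 1 + η + η ^ 2 + η ^ 3 + η ^ 4 = 0 :=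
    mul_left_cancel₀ (sub_ne_zero.2 h1) (by linear_combination h)
  have h3 := Complex.norm_eq_one_of_pow_eq_one h (by norm_num)
  have h4 : ‖1 + η‖ * ‖1 + η ^ 2‖ = 1 := by
    rw [← norm_mul, show (1 + η) * (1 + η ^ 2) = -η ^ 4 by linear_combination h2, norm_neg, norm_pow,
      h3, one_pow]
  by_cases h5 : ‖1 + η‖ < 1
  · exact ⟨1, by rwa [pow_one], fun e => h1 (by linear_combination h - (η ^ 3 + η) * e)⟩
  refine ⟨2, by_contra fun h6 => h1 ?_, fun e => h1 (by linear_combination h - η * e)⟩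
  have h7 : ‖1 + η‖ = 1 := by nlinarith
  have h8 : η * conj η = 1 := by rw [Complex.mul_conj, Complex.normSq_eq_norm_sq, h3]; simp
  have h9 : (1 + η) * conj (1 + η) = 1 := by
    rw [Complex.mul_conj, Complex.normSq_eq_norm_sq, h7]; simp
  rw [map_add, map_one] at h9
  have h10 : η ^ 2 + η + 1 = 0 := by linear_combination η * h9 - (1 + η) * h8
  linear_combination (η ^ 3 + 1) * (η - 1) * h10 - η * h

variable [Finite G] [hp : Fact p.Prime]

omit hp in
theorem pow_mul_of {θ : G → ℂ} {b : G} {ν : ℂ} (h : ∀ g, θ (b * g) = ν * θ g) (i : ℕ) (g : G) :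
    θ (b ^ i * g) = ν ^ i * θ g := by
  induction i with
  | zero => simp
  | succ i ih => rw [pow_succ', mul_assoc, h, ih, pow_succ', mul_assoc]

theorem hom_eq_one (hG : Gp p G = ⊤) (h2 : p ≠ 2) (l : G →* ℂˣ) {t : G} (ht : t ^ 2 = 1) :
    l t = 1 := by
  have h1 : (l ^ p ^ (Nat.card G).factorization p).ker = ⊤ := eq_top_of_pe hG fun g hg => by
    rw [MonoidHom.mem_ker, MonoidHom.pow_apply, ← map_pow, hg.pow_fact, map_one]
  have h3 : l t ^ p ^ (Nat.card G).factorization p = 1 := MonoidHom.mem_ker.1 (h1 ▸ mem_top t)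
  obtain ⟨k, hk⟩ := (hp.out.odd_of_ne_two h2).pow (n := (Nat.card G).factorization p)
  rwa [hk, pow_succ, pow_mul, ← map_pow, ht, map_one, one_pow, one_mul] at h3

/-- a minimal counterexample -/
structure MC (p : ℕ) (χ : G → ℂ) (d : ℕ) : Prop where
  five : 5 ≤ p
  irr : IsIrrCharacter G χ
  deg : χ 1 = d
  le : d + 2 ≤ p
  faith : ∀ g, χ g = χ 1 → g = 1
  core : pCore p G = ⊥
  sub : ∀ H : Subgroup G, H ≠ ⊤ → ¬ p ^ 2 ∣ (pCore p H).index

namespace MC

variable (h : MC p χ d)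
include h

omit [Finite G] hp in
theorem char : IsCharacter G χ := isCharacter_of_isIrr h.irr

omit [Finite G] hp in
theorem exists_conj (hx : PE p x) (h1 : x ≠ 1) : ∃ g, ¬ Commute (g * x * g⁻¹) x :=
  not_forall.1 fun e => h1 (mem_bot.1 (h.core ▸ hx.mem_pCore e))

omit [Finite G] hp in
theorem notMem_center (hx : PE p x) (h1 : x ≠ 1) : x ∉ center G := fun e =>
  (h.exists_conj hx h1).elim fun _ hg => hg (mem_center_iff.1 e _)

theorem str_sub {H : Subgroup G} (hH : H ≠ ⊤) (hG : Gp p H = ⊤) (hna : ∃ a b : H, ¬ Commute a b) :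
    ∃ (ψ φ : H → ℂ) (w f : ℕ), IsIrrCharacter H ψ ∧ IsCharacter H φ ∧ ψ 1 = w ∧ φ 1 = f ∧
      w + f = d ∧ (∀ g : H, χ g = ψ g + φ g) ∧ (∀ (g : H) μ, em χ g μ = em ψ g μ + em φ g μ) ∧
      commutator H ≤ cker φ ∧ charCenter ψ = center H ∧ p ≤ 2 * w + 1 ∧
      ∀ x, PE p x → x ∉ center H → (∀ μ, em ψ x μ ≤ 1) ∧ (2 * w + 1 = p → ∀ l : H →* ℂˣ,
        (∀ b, PE p b → b ∈ center H → ψ b = w * l b) → em ψ x (l x) = 0) := by
  obtain ⟨ψ, φ, w, h1, h2, h3, h4, h5⟩ := str hG (isCharacter_restrict H h.char) h.deg h.le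
    (fun g hg => Subtype.ext (h.faith g hg)) (h.sub H hH) hna
  refine ⟨ψ, φ, w, _, h1, h2, h4, (deg_cast h2).symm, ?_, congrFun h3, fun g μ => ?_, h5⟩
  · have := congrFun h3 1
    simp only [OneMemClass.coe_one, h.deg, Pi.add_apply, h4, ← deg_cast h2] at this
    exact_mod_cast this.symm
  · rw [← em_res H h.char, h3, em_add (isCharacter_of_isIrr h1) h2]

theorem step (hx : PE p x) (h1 : x ≠ 1) (he : p ≤ 2 * em χ x μ + 1) :
    p ≠ 5 ∧ (∀ ν κ, ν ≠ κ → d ≤ em χ x ν + em χ x κ → p ≤ 5) ∧ ∃ (b : G) (ν κ : ℂ), PE p b ∧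
      b ≠ 1 ∧ ν ≠ κ ∧ p ≤ 2 * em χ b ν + 1 ∧ d ≤ em χ b ν + em χ b κ := by
  have h5 := h.five
  have hle := h.le
  obtain ⟨g, hg⟩ := h.exists_conj hx h1
  have he' : p ≤ 2 * em χ (g * x * g⁻¹) μ + 1 := by rwa [em_conj h.char]
  have hx' := hx.conj g
  generalize g * x * g⁻¹ = y at hg he' hx'
  have hd1 : d ≠ 1 := by have := em_le h.char h.deg x μ; omega
  have hH : closure {x, y} ≠ ⊤ := fun e => by
    have := em_pair h.irr h.deg hd1 e μ μ
    omega
  let a : closure {x, y} := ⟨x, subset_closure (by simp)⟩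
  let b : closure {x, y} := ⟨y, subset_closure (by simp)⟩
  have hab : ¬ Commute a b := fun e => hg (congrArg Subtype.val e.symm)
  have hG : Gp p (closure {x, y}) = ⊤ := Gp_closure (by rintro _ (rfl | rfl) <;> assumption)
  obtain ⟨ψ, φ, w, f, hψ, hφ, hw, hf, hwf, hs, hem, -, hc, hpw, hst⟩ :=
    h.str_sub hH hG ⟨a, b, hab⟩
  have hψc := isCharacter_of_isIrr hψ
  obtain ⟨a1, a2⟩ := hst a (PE.coe.1 hx) fun e => hab (mem_center_iff.1 e b).symm
  obtain ⟨b1, -⟩ := hst b (PE.coe.1 hx') fun e => hab (mem_center_iff.1 e a)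
  have a3 : em χ x μ = _ := hem a μ
  have b3 : em χ y μ = _ := hem b μ
  have a4 := em_le hφ hf a μ
  have b4 := em_le hφ hf b μ
  have a5 := a1 μ
  have b5 := b1 μ
  have hf0 : φ 1 ≠ 0 := by rw [hf, Nat.cast_ne_zero]; omega
  have hμ : μ ≠ 0 := fun e => by
    rw [em_eq_zero h.char (pow_orderOf_eq_one x) (by simp [e, (orderOf_pos x).ne'])] at he
    omega
  have a6 := (em_eq_iff hφ hf (x := a) (μ := μ)).1 (by omega)
  have b6 := (em_eq_iff hφ hf (x := b) (μ := μ)).1 (by omega)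
  have hct : charCenter φ = ⊤ := by
    rw [eq_top_iff, ← closure_preimage_eq_top, closure_le]
    rintro z (e | e)
    · exact ⟨Units.mk0 μ hμ, (Subtype.ext e : z = a) ▸ a6⟩
    · exact ⟨Units.mk0 μ hμ, (Subtype.ext e : z = b) ▸ b6⟩
  obtain ⟨l0, hl0⟩ := exists_hom_charCenter hf0
  obtain ⟨l, hl⟩ : ∃ l : closure {x, y} →* ℂˣ, ∀ z g, φ (z * g) = l z * φ g :=
    ⟨l0.comp ((MonoidHom.id _).codRestrict _ fun z => hct ▸ mem_top z),
      fun z => hl0 ⟨z, hct ▸ mem_top z⟩⟩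
  have hla : (l a : ℂ) = μ := mul_right_cancel₀ hf0 ((hl a 1).symm.trans (a6 1))
  obtain ⟨c, hc1, hc2, hc3⟩ : ∃ c, PE p c ∧ c ∈ center _ ∧ ψ c ≠ w * l c := by
    by_contra! e
    have := a2 (by omega) l e
    rw [hla] at this
    omega
  have hc4 := irr_mul_of_mem_center hψ hc2
  have hw0 := irr_one_ne_zero hψ
  have hne : ψ c / ψ 1 ≠ l c := fun e => hc3 (by rw [← e, ← hw, mul_div_cancel₀ _ hw0])
  have hc5 : ∀ {z : closure {x, y}} {ν κ}, (∀ g, ψ (z * g) = ν * ψ g) →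
      (∀ g, φ (z * g) = κ * φ g) → w ≤ em χ z ν ∧ d ≤ em χ z ν + em χ z κ := fun e1 e2 => by
    rw [hem, hem, (em_eq_iff hψc hw).2 e1, (em_eq_iff hφ hf).2 e2]
    omega
  refine ⟨fun e => ?_, fun ν κ e1 e2 => ?_, c, _, _, PE.coe.2 hc1, fun e => hne ?_, hne,
    by have := (hc5 hc4 (hl c)).1; omega, (hc5 hc4 (hl c)).2⟩
  · subst e
    obtain rfl : w = 2 := by omega
    obtain ⟨t, ht⟩ := exists_prime_orderOf_dvd_card' 2 (deg_eq_of_eq hw ▸ deg_dvd_card hψ)
    have ht2 : t ^ 2 = 1 := ht ▸ pow_orderOf_eq_one t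
    have t1 := hom_eq_one hG (by norm_num) l ht2
    obtain ⟨l', hl'⟩ := exists_unitsHom_of_one_eq_one (isCharacter_altSq hψc)
      (by simp only [mul_one, hw]; norm_num)
    have t2 := congrFun hl' t
    simp only [hom_eq_one hG (by norm_num) l' ht2, ← sq, ht2, hw, Units.val_one] at t2
    have t3 : ψ t = -2 := by
      refine (sq_eq_sq_iff_eq_or_eq_neg.1 (by push_cast at t2; linear_combination 2 * t2 :
        ψ t ^ 2 = 2 ^ 2)).resolve_left fun e => ?_
      have := h.faith t (by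
        rw [hs, ← OneMemClass.coe_one (closure {x, y}), hs, e, hw, ← mul_one t, hl, t1]; simp)
      rw [show t = 1 from Subtype.ext this, orderOf_one] at ht
      omega
    have t4 := char_mul_of_norm_eq hψc (g := t) (by rw [t3, hw]; simp)
    rw [t3, hw] at t4
    obtain ⟨k, hk⟩ := hc1
    have u1 : (ψ c / ψ 1) ^ 5 ^ k = 1 :=
      mul_right_cancel₀ hw0 (by rw [← pow_mul_of hc4, hk, one_mul, one_mul])
    have u2 : (l c : ℂ) ^ 5 ^ k = 1 := by
      rw [← Units.val_pow_eq_pow_val, ← map_pow, hk, map_one, Units.val_one]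
    have u3 : (ψ c / ψ 1 / l c) ^ 5 ^ k = 1 := by rw [div_pow, u1, u2, div_one]
    have u4 : ψ c / ψ 1 / l c ≠ 1 := fun e => hne ((div_eq_one_iff_eq (l c).ne_zero).1 e)
    generalize ψ c / ψ 1 = ν at *
    obtain ⟨j, j1, j2⟩ : ∃ j : ℕ, ((ν / l c) ^ j) ^ 5 = 1 ∧ (ν / l c) ^ j ≠ 1 := by
      by_contra! e
      refine u4 (Nat.decreasingInduction (n := k) (motive := fun i _ => (ν / l c) ^ 5 ^ i = 1)
        (fun i _ e' => e _ (by rw [← pow_mul, ← pow_succ, e'])) u3 (Nat.zero_le k) |>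
          (by simpa using ·))
    obtain ⟨i, i1, i2⟩ := exists_norm_lt j1 j2
    rw [← pow_mul] at i1 i2
    have u5 : ‖(l c : ℂ) ^ (j * i)‖ = 1 := by
      rw [norm_pow, Complex.norm_eq_one_of_pow_eq_one u2 (by positivity), one_pow]
    have u6 : ‖(l c : ℂ) ^ (j * i) - -ν ^ (j * i)‖ < 1 := by
      rwa [sub_neg_eq_add, ← div_mul_cancel₀ ν (l c).ne_zero, mul_pow, ← one_add_mul, norm_mul, u5,
        mul_one]
    have u7 := (hc5 (z := c ^ (j * i) * t) (ν := -ν ^ (j * i)) (κ := l c ^ (j * i))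
      (fun g => by rw [mul_assoc, pow_mul_of hc4, t4]; norm_num)
      (fun g => by rw [hl, map_mul, t1, mul_one, map_pow, Units.val_pow_eq_pow_val])).2
    have u8 := near h.char h.deg h.faith (fun e => by
      refine i2 ?_
      rw [mul_left_comm, mul_comm 2, pow_mul, div_pow, e, div_neg, div_self, neg_one_sq]
      exact neg_ne_zero.1 (e ▸ pow_ne_zero _ (l c).ne_zero)) (add_comm (em χ _ _) _ ▸ u7)
      (M := 5 ^ k) (by positivity) (by rw [← pow_mul, mul_comm, pow_mul, u2, one_pow]) u6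
    have u9 : (c ^ (j * i) * t) ^ 2 = c ^ (j * (2 * i)) := by
      rw [Commute.mul_pow (mem_center_iff.1 (pow_mem hc2 _) t).symm, ht2, mul_one, ← pow_mul]
      congr 1; ring
    have u10 : c ^ (j * (2 * i)) = 1 := by
      refine Subtype.ext (mem_bot.1 (h.core ▸ (PE.coe.2 (PE.pow ⟨k, hk⟩ _)).mem_pCore fun g => ?_))
      rw [← u9, coe_pow, ← conj_pow]
      exact (u8 g).pow_pow 2 2
    refine i2 ?_
    rw [div_pow, ← Units.val_pow_eq_pow_val, ← map_pow, u10, map_one, Units.val_one, div_one]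
    exact mul_right_cancel₀ hw0 (by rw [← pow_mul_of hc4, u10, one_mul, one_mul])
  · have e3 : em χ x ν = _ := hem a ν
    have e4 : em χ x κ = _ := hem a κ
    have e5 := em_two_le hφ hf a e1
    have := a1 ν
    have := a1 κ
    omega
  · rw [show c = 1 from Subtype.ext e, div_self hw0, map_one, Units.val_one]

theorem lt (hx : PE p x) (h1 : x ≠ 1) (μ : ℂ) : 2 * em χ x μ + 1 < p := by
  by_contra! he
  obtain ⟨h2, -, b, ν, κ, b1, b2, b3, b4, b5⟩ := h.step hx h1 he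
  have := (h.step b1 b2 b4).2.1 ν κ b3 b5
  have := h.five
  omega

/-- the subgroup generated by the `p`-elements commuting with `g` -/
abbrev _root_.CfsgLib.Blau.Cp (p : ℕ) (g : G) : Subgroup G := closure {a | PE p a ∧ Commute g a}

omit h [Finite G] hp in
theorem Cp_le (g : G) : Cp p g ≤ CC g := (closure_le _).2 fun _ ha => mem_CC.2 ha.2

omit h [Finite G] hp in
theorem Cp_ne {g : G} (hg : g ∉ center G) : Cp p g ≠ ⊤ := fun e =>
  hg (mem_center_iff.2 fun a => (mem_CC.1 (Cp_le g (e ▸ mem_top a))).eq.symm)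

theorem comm_pe (hx : PE p x) (h1 : x ≠ 1) {a b : G} (ha : PE p a) (hb : PE p b)
    (ha' : Commute x a) (hb' : Commute x b) : Commute a b := by
  by_contra hab
  obtain ⟨ψ, φ, w, f, hψ, hφ, hw, hf, hwf, hs, hem, -, hc, hpw, hst⟩ :=
    h.str_sub (Cp_ne (h.notMem_center hx h1)) (Gp_closure fun _ e => e.1)
      ⟨⟨a, subset_closure ⟨ha, ha'⟩⟩, ⟨b, subset_closure ⟨hb, hb'⟩⟩,
        fun e => hab (congrArg Subtype.val e)⟩
  let z : Cp p x := ⟨x, subset_closure ⟨hx, Commute.refl x⟩⟩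
  have h2 := (em_eq_iff (isCharacter_of_isIrr hψ) hw).2 (irr_mul_of_mem_center hψ (z := z)
    (mem_center_iff.2 fun g => Subtype.ext (mem_CC.1 (Cp_le x g.2)).eq.symm))
  have h3 : em χ x _ = _ := hem z (ψ z / ψ 1)
  have := h.lt hx h1 (ψ z / ψ 1)
  omega

theorem comm (hsq : p ^ 2 ∣ Nat.card G) {g : G} (hg : g ∉ center G) {a b : G} (ha : PE p a)
    (hb : PE p b) (ha' : Commute g a) (hb' : Commute g b) : Commute a b := by
  by_contra hab
  have h5 := h.five
  have hle := h.le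
  have hG : Gp p (Cp p g) = ⊤ := Gp_closure fun _ e => e.1
  let a' : Cp p g := ⟨a, subset_closure ⟨ha, ha'⟩⟩
  let b' : Cp p g := ⟨b, subset_closure ⟨hb, hb'⟩⟩
  have hab' : ¬ Commute a' b' := fun e => hab (congrArg Subtype.val e)
  have hχ' := isCharacter_restrict (Cp p g) h.char
  have hf' : ∀ c : Cp p g, χ c = χ (1 : Cp p g) → c = 1 := fun c e => Subtype.ext (h.faith c e)
  obtain ⟨ψ, φ, w, f, hψ, hφ, hw, hf, hwf, hs, hem, hk, hc, hpw, hst⟩ :=
    h.str_sub (Cp_ne hg) hG ⟨a', b', hab'⟩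
  have h1 : ∀ c : Cp p g, PE p c → c ∈ center _ → c = 1 := fun c e1 e2 => by_contra fun e =>
    hab (h.comm_pe (PE.coe.2 e1) (fun e' => e (Subtype.ext e')) ha hb
      (congrArg Subtype.val (mem_center_iff.1 e2 a')).symm
      (congrArg Subtype.val (mem_center_iff.1 e2 b')).symm)
  have h2 : ¬ p ^ 2 ∣ Nat.card (Cp p g) := by
    have := h.sub _ (Cp_ne (p := p) hg)
    rwa [show pCore p (Cp p g) = ⊥ from eq_bot_iff.2 fun c e => h1 c
      (PE.of_mem (Core.isPGroup_pCore _ _) e)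
      (pCore_le_center hG hχ' h.deg (by omega) hf' e), index_bot] at this
  have h3 : a' ∉ center _ := fun e => hab' (mem_center_iff.1 e b').symm
  have h4 : a' ≠ 1 := fun e => h3 (e ▸ one_mem _)
  have h4' : a ≠ 1 := fun e => h4 (Subtype.ext e)
  have hs : Syl p a' := ⟨hp.out, (PE.coe.1 ha).orderOf_eq h4 h2, h2⟩
  have h6 := (em_eq_iff hφ hf (μ := 1)).2 fun c => by
    rw [char_mul_of_mem_cker hφ (hk (mem_commutator_of_ee hs fun e =>
      h3 (mem_center_of_ee hs e hχ' h.deg hle hf'))), one_mul]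
  obtain ⟨h7, h8⟩ := hst a' (PE.coe.1 ha) h3
  have h9 : p + 2 * em χ a 1 ≤ 2 * d + 1 := by
    have e1 : em χ a 1 = _ := hem a' 1
    have e2 := h7 1
    by_cases e : 2 * w + 1 = p
    · have e3 : em ψ a' 1 = 0 := h8 e 1 fun c e1 e2 => by simp [h1 c e1 e2, hw]
      omega
    · obtain ⟨k, hk⟩ := hp.out.odd_of_ne_two (by omega)
      omega
  obtain ⟨P, hP⟩ := ha.isPGroup.exists_le_sylow
  refine h2 ((P.pow_dvd_card_of_pow_dvd_card hsq).trans (card_dvd_of_le fun u hu => ?_))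
  have hu1 := PE.of_mem P.2 hu
  have hu2 := comm_of_pgroup h.char h.deg (by omega) h.faith P.2 (hP (mem_zpowers a)) hu
  have hu3 : Commute a (g * u⁻¹ * g⁻¹) :=
    (ha'.symm.mul_right hu2.inv_right).mul_right ha'.symm.inv_right
  have hu4 : PE p (g * u⁻¹ * g⁻¹) := (PE.of_mem P.2 (inv_mem hu)).conj g
  have hu5 : PE p ⁅u, g⁆ := by
    rw [commutatorElement_def, mul_assoc, mul_assoc, ← mul_assoc g]
    exact hu1.mul hu4 (h.comm_pe ha h4' hu1 hu4 hu2 hu3)
  refine subset_closure ⟨hu1, (commutatorElement_eq_one_iff_commute.1 (by_contra fun e => ?_)).symm⟩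
  have e1 := h.lt hu5 e 1
  have e2 := em_comm h.char h.deg (x := a) (fun μ hμ => by
    have e3 : em χ a μ = _ := hem a' μ
    have e4 := em_two_le hφ hf a' hμ
    have := h7 μ
    omega) hu2 ha'.symm
  omega

theorem false (hG : Gp p G = ⊤) (hsq : p ^ 2 ∣ Nat.card G) : False := by
  classical
  have := Fintype.ofFinite G
  have h5 := h.five
  have hle := h.le
  obtain ⟨P⟩ : Nonempty (Sylow p G) := inferInstance
  have hab := fun (Q : Sylow p G) a ha b hb =>
    comm_of_pgroup (a := a) (b := b) h.char h.deg (by omega) h.faith Q.2 ha hb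
  have h1 := Nat.le_of_dvd Nat.card_pos (P.pow_dvd_card_of_pow_dvd_card hsq)
  obtain ⟨⟨x, hx⟩, hx1⟩ := (ne_bot_iff_exists_ne_one (H := (P : Subgroup G))).1 fun e => by
    rw [e, card_bot] at h1
    nlinarith
  replace hx1 : x ≠ 1 := fun e => hx1 (Subtype.ext e)
  have h2 := (Cfsg.Agent.S0898.result (P : Subgroup G) (hab P)
    (eq_bot_iff.2 fun z hz => by_contra fun e => h.notMem_center (PE.of_mem P.2 hz.1) e hz.2)
    (fun g hg a b ha hb => by
      obtain ⟨⟨x, hx, hxa⟩, hx1⟩ := ne_bot_iff_exists_ne_one.1 ha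
      obtain ⟨⟨y, hy, hyb⟩, hy1⟩ := ne_bot_iff_exists_ne_one.1 hb
      replace hx1 : x ≠ 1 := fun e => hx1 (Subtype.ext e)
      replace hy1 : y ≠ 1 := fun e => hy1 (Subtype.ext e)
      have e1 := PE.of_mem (a • P).2 hxa
      have e2 := PE.of_mem (b • P).2 hyb
      have e3 := h.comm hsq hg e1 e2 (mem_CC.1 hx) (mem_CC.1 hy)
      have e4 : ((a • P : Sylow p G) : Subgroup G) ≤ (b • P : Sylow p G) := by
        rw [← inf_eq_left, ← (a • P).2.inf_normalizer_sylow, inf_eq_left]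
        refine fun u hu => centralizer_le_normalizer _ fun v hv => ?_
        have e5 := PE.of_mem (a • P).2 hu
        exact h.comm_pe e2 hy1 (PE.of_mem (b • P).2 hv) e5 (hab _ _ hyb _ hv)
          (h.comm_pe e1 hx1 e2 e5 e3 (hab _ _ hxa _ hu))
      exact ((a • P).is_maximal' (b • P).2 e4).symm) χ h.irr
    ⟨x, hx, fun e => hx1 (h.faith x e)⟩).2
    (fun e => h.notMem_center (PE.of_mem P.2 hx) hx1 (mem_center_iff.2 fun g =>
      commutatorElement_eq_one_iff_mul_comm.1 (h.faith _ ((mem_cker h.char).1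
        (commutator_le_cker h.char e (commutator_mem_commutator (mem_top _) (mem_top _)))))))
    (fun M hM hPM => eq_top_of_pe hG fun g hg => by
      obtain ⟨Q, hQ⟩ := hg.isPGroup.exists_le_sylow
      obtain ⟨k, rfl⟩ := MulAction.exists_smul_eq G P Q
      obtain ⟨u, hu, e⟩ := hQ (mem_zpowers g)
      exact e ▸ hM.conj_mem u (hPM hu) k)
  rw [h.deg, Complex.natCast_re] at h2
  have h3 : Nat.card P < (1 + d) ^ 2 := by exact_mod_cast h2
  have := Nat.pow_le_pow_left (show 1 + d ≤ p by omega) 2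
  omega

end MC

theorem not_sq_dvd_of_le_center {B : Subgroup G} (hB : B ≤ center G) (h : ¬ p ^ 2 ∣ B.index) :
    ¬ p ^ 2 ∣ (pCore p G).index := fun e => by
  obtain ⟨Q⟩ : Nonempty (Sylow p B) := inferInstance
  have : ((Q : Subgroup B).map B.subtype).Normal := ⟨fun n hn g => by
    rwa [mem_center_iff.1 (hB (map_subtype_le _ hn)) g, mul_inv_cancel_right]⟩
  have h1 := index_dvd_of_le (Core.le_pCore (Q.2.map B.subtype))
  rw [index_map_subtype] at h1
  exact h ((Nat.Coprime.pow_left 2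
    (hp.out.coprime_iff_not_dvd.2 Q.not_dvd_index)).dvd_of_dvd_mul_left (e.trans h1))

universe u

theorem sq_aux (h5 : 5 ≤ p) (m : ℕ) : ∀ (G : Type u) [Group G] [Finite G], Nat.card G = m →
    ∀ (χ : G → ℂ) (d : ℕ), IsCharacter G χ → χ 1 = d → d + 2 ≤ p → (∀ g, χ g = χ 1 → g = 1) →
      ¬ p ^ 2 ∣ (pCore p G).index := by
  induction m using Nat.strong_induction_on with
  | _ m ih =>
  intro G _ _ hm χ d hχ hd hdp hf hsq
  have hsub : ∀ H : Subgroup G, H ≠ ⊤ → ¬ p ^ 2 ∣ (pCore p H).index := fun H hH =>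
    ih _ (hm ▸ lt_of_le_of_ne H.card_le_card_group fun h => hH (H.eq_top_of_card_eq h)) H rfl _ d
      (isCharacter_restrict H hχ) hd hdp fun g hg => Subtype.ext (hf g hg)
  have hquo : ∀ η, IsCharacter G η → charDegree η ≤ d → cker η ≠ ⊥ →
      ¬ p ^ 2 ∣ ((pCore p (G ⧸ cker η)).comap (QuotientGroup.mk' _)).index := fun η hη h1 h2 => by
    rw [index_comap_of_surjective _ (QuotientGroup.mk'_surjective _)]
    refine ih _ ?_ _ rfl _ (charDegree η) (isCharacter_defl hη le_rfl)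
      ((defl_one hη le_rfl).trans (deg_cast hη).symm) (by omega)
      ((cker_eq_bot_iff (isCharacter_defl hη le_rfl)).1 (cker_defl_cker hη))
    rw [← hm, card_eq_card_quotient_mul_card_subgroup (cker η)]
    exact lt_mul_of_one_lt_right Nat.card_pos ((one_lt_card_iff_ne_bot _).2 h2)
  have hG : Gp p G = ⊤ := by
    by_contra h
    have := Gp_normal (p := p) (G := G)
    have h1 := index_dvd_of_le (Core.map_pCore_le_of_normal (p := p) (Gp p G))
    rw [index_map_subtype] at h1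
    obtain ⟨P⟩ : Nonempty (Sylow p G) := inferInstance
    exact hsub _ h ((Nat.Coprime.pow_left 2 (hp.out.coprime_iff_not_dvd.2 fun e =>
      P.not_dvd_index (e.trans (index_dvd_of_le fun g hg =>
        mem_Gp (PE.of_mem P.2 hg))))).dvd_of_dvd_mul_right (hsq.trans h1))
  obtain ⟨ψ, hψ, h1, h2⟩ : ∃ ψ, IsIrrCharacter G ψ ∧ charDegree ψ ≤ d ∧ cker ψ = ⊥ := by
    by_contra! h
    have hB : ∀ η, IsIrrCharacter G η → charDegree η ≤ d →
        ∃ B ≤ charCenter η, ¬ p ^ 2 ∣ B.index := fun η hη h1 => by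
      have hη' := isCharacter_of_isIrr hη
      refine ⟨_, fun g hg => ?_, hquo η hη' h1 (h η hη h1)⟩
      have h2 := norm_irr_of_mem_center (isIrr_defl hη le_rfl) (pCore_le_center (p := p)
        (eq_top_iff.2 fun q _ => by
          obtain ⟨g, rfl⟩ := QuotientGroup.mk'_surjective _ q
          exact mem_comap.1 (eq_top_of_pe hG (H := (Gp p _).comap (QuotientGroup.mk' (cker η)))
            (fun g hg => mem_Gp (hg.map _)) ▸ mem_top g))
        (isCharacter_defl hη' le_rfl) ((defl_one hη' le_rfl).trans (deg_cast hη').symm) (by omega)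
        ((cker_eq_bot_iff (isCharacter_defl hη' le_rfl)).1 (cker_defl_cker hη')) hg)
      rwa [defl_one hη' le_rfl, QuotientGroup.mk'_apply, defl_mk hη' le_rfl,
        ← mem_charCenter hη'] at h2
    by_cases hna : ∃ a b : G, ¬ Commute a b
    · obtain ⟨ψ, φ, w, h1, h2, h3, h4, -, h6, -⟩ := str0 hG hχ hd hdp hf hB hna
      have h7 := deg_add (isCharacter_of_isIrr h1) h2
      rw [← h3, deg_eq_of_eq hd] at h7
      obtain ⟨B, hB, h8⟩ := hB ψ h1 (by omega)
      exact not_sq_dvd_of_le_center (h6 ▸ hB) h8 hsq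
    · push Not at hna
      refine not_sq_dvd_of_le_center (B := ⊤) (fun a _ => mem_center_iff.2 fun b => hna b a) ?_ hsq
      rw [index_top, Nat.dvd_one]
      nlinarith
  have hψc := isCharacter_of_isIrr hψ
  have hw := (deg_cast hψc).symm
  have hf' := (cker_eq_bot_iff hψc).1 h2
  have hc : pCore p G = ⊥ := by
    by_contra h
    obtain ⟨l, hl, N, hN⟩ := exists_tw (p := p) hψ hw (by omega)
    have h3 := isCharacter_of_isIrr (CharDeep.isIrr_linear_mul l⁻¹ hψ)
    have h4 := hquo _ h3 (by rwa [deg_congr (ψ := ψ) (by simp)]) fun e => h (eq_bot_iff.2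
      fun b hb => e ▸ (mem_cker h3).2 (by
        rw [hl b (PE.of_mem (Core.isPGroup_pCore _ _) hb) (center_le_charCenter hψ
          (pCore_le_center hG hχ hd (by omega) hf hb)), ← hw]
        simp [mul_left_comm]))
    rw [Core.comap_mk'_pCore fun g => ⟨N, Subtype.ext (hf' _ (by
      have := (mem_cker h3).1 (g ^ p ^ N).2
      rw [coe_pow, map_pow, MonoidHom.inv_apply, inv_pow, hN] at this
      rw [coe_pow]
      simpa using this))⟩] at h4
    exact h4 hsq
  rw [hc, index_bot] at hsq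
  exact MC.false ⟨h5, hψ, hw, by omega, hf', hc, hsub⟩ hG hsq

theorem sq (h5 : 5 ≤ p) (hχ : IsCharacter G χ) (hd : χ 1 = d) (hdp : d + 2 ≤ p)
    (hf : ∀ g, χ g = χ 1 → g = 1) : ¬ p ^ 2 ∣ (pCore p G).index :=
  sq_aux h5 _ G rfl χ d hχ hd hdp hf

end CfsgLib.Blau
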