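import Cfsg.Agent.Lib.Blau.Val
import Cfsg.Agent.S0185

/-!
Groups generated by `p`-elements with a faithful character of degree `≤ p - 2`.
-/

set_option autoImplicit false

namespace CfsgLib.Blau

open Cfsg CfsgLib.Char CfsgLib.ChDeg CfsgLib.DefectOne CfsgLib.DefectOne.B43 CfsgLib.Tuan
  CfsgLib.LowDeg CfsgLib.LowD2 CfsgLib.FewSyl CfsgLib.ChTab Subgroup
open scoped ComplexConjugate MatrixGroups commutatorElement

variable {G : Type*} [Group G] [Finite G] {p : ℕ} [hp : Fact p.Prime] {x : G} {χ ψ : G → ℂ}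
  {d w : ℕ}

omit [Finite G] hp in
theorem PE.conj (h : PE p x) (g : G) : PE p (g * x * g⁻¹) :=
  h.imp fun k hk => by rw [conj_pow, hk, mul_one, mul_inv_cancel]

omit [Finite G] hp in
theorem PE.pow (h : PE p x) (n : ℕ) : PE p (x ^ n) :=
  h.imp fun k hk => by rw [← pow_mul, mul_comm, pow_mul, hk, one_pow]

omit [Finite G] hp in
theorem PE.map {H : Type*} [Group H] (f : G →* H) (h : PE p x) : PE p (f x) :=
  h.imp fun k hk => by rw [← map_pow, hk, map_one]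

omit [Finite G] hp in
theorem PE.coe {H : Subgroup G} {y : H} : PE p (y : G) ↔ PE p y :=
  exists_congr fun k => by rw [← coe_pow, OneMemClass.coe_eq_one]

omit [Finite G] hp in
theorem PE.of_mem {Q : Subgroup G} (hQ : IsPGroup p Q) (h : x ∈ Q) : PE p x :=
  PE.coe (y := ⟨x, h⟩).2 (hQ _)

omit [Finite G] hp in
theorem PE.isPGroup (h : PE p x) : IsPGroup p (zpowers x) := by
  obtain ⟨k, hk⟩ := h
  rintro ⟨_, n, rfl⟩
  exact ⟨k, Subtype.ext (by
    change (x ^ n) ^ p ^ k = 1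
    rw [← zpow_natCast, ← zpow_mul, mul_comm, zpow_mul, zpow_natCast, hk, one_zpow])⟩

theorem PE.pow_fact (h : PE p x) : x ^ p ^ (Nat.card G).factorization p = 1 := by
  obtain ⟨k, hk⟩ := h
  obtain ⟨j, -, hj⟩ := (Nat.dvd_prime_pow hp.out).1 (orderOf_dvd_of_pow_eq_one hk)
  refine orderOf_dvd_iff_pow_eq_one.1 (hj ▸ pow_dvd_pow _ ?_)
  exact (hp.out.pow_dvd_iff_le_factorization Nat.card_pos.ne').1 (hj ▸ orderOf_dvd_natCard x)

omit [Finite G] hp in
theorem pe_pow (x : G) : PE p (x ^ ordCompl[p] (Nat.card G)) :=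
  ⟨(Nat.card G).factorization p, by
    rw [← pow_mul, mul_comm, Nat.ordProj_mul_ordCompl_eq_self, pow_card_eq_one']⟩

omit [Finite G] in
theorem PE.orderOf_eq (h : PE p x) (h1 : x ≠ 1) (hsq : ¬ p ^ 2 ∣ Nat.card G) : orderOf x = p := by
  obtain ⟨k, hk⟩ := h
  obtain ⟨j, -, hj⟩ := (Nat.dvd_prime_pow hp.out).1 (orderOf_dvd_of_pow_eq_one hk)
  rcases j with _ | _ | j
  · exact absurd (orderOf_eq_one_iff.1 hj) h1
  · simpa using hj
  · exact absurd ((pow_dvd_pow _ (by omega)).trans (hj ▸ orderOf_dvd_natCard x)) hsq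

omit [Finite G] hp in
theorem mem_Gp (h : PE p x) : x ∈ Gp p G := subset_closure h

omit [Finite G] hp in
theorem Gp_normal : (Gp p G).Normal :=
  ⟨fun x hx g => closure_induction (p := fun x _ => g * x * g⁻¹ ∈ Gp p G)
    (fun x hx => mem_Gp (PE.conj hx g)) (by simp [one_mem])
    (fun a b _ _ ha hb => by simpa [mul_assoc] using mul_mem ha hb)
    (fun a _ ha => by simpa [mul_assoc] using inv_mem ha) hx⟩

omit [Finite G] hp in
theorem Gp_closure {S : Set G} (hS : ∀ g ∈ S, PE p g) : Gp p (closure S) = ⊤ := by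
  rw [eq_top_iff, ← closure_preimage_eq_top]
  exact closure_mono fun g hg => PE.coe.1 (hS g hg)

omit [Finite G] hp in
theorem eq_top_of_pe (hG : Gp p G = ⊤) {H : Subgroup G} (h : ∀ g, PE p g → g ∈ H) : H = ⊤ :=
  eq_top_iff.2 (hG ▸ (closure_le _).2 h)

theorem comm_of_pgroup (hχ : IsCharacter G χ) (hd : χ 1 = d) (hdp : d < p)
    (hf : ∀ g, χ g = χ 1 → g = 1) {Q : Subgroup G} (hQ : IsPGroup p Q) {a b : G} (ha : a ∈ Q)
    (hb : b ∈ Q) : Commute a b := by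
  obtain ⟨n, ρ, rfl⟩ := hχ
  obtain rfl : n = d := by simpa using hd
  refine congrArg Subtype.val (Cfsg.Agent.S0185.result (ρ.comp Q.subtype)
    ((injective_of_faithful ρ hf).comp Subtype.val_injective) (fun q hq hqd => ?_) ⟨a, ha⟩ ⟨b, hb⟩)
  obtain ⟨k, hk⟩ := IsPGroup.iff_card.mp hQ
  rw [(Nat.prime_dvd_prime_iff_eq hq hp.out).mp (hq.dvd_of_dvd_pow (hk ▸ hqd))]
  simpa using hdp

theorem commute_pCore (hχ : IsCharacter G χ) (hd : χ 1 = d) (hdp : d < p)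
    (hf : ∀ g, χ g = χ 1 → g = 1) {a b : G} (ha : a ∈ pCore p G) (hb : b ∈ Gp p G) :
    Commute a b := by
  refine mem_CC.1 ((closure_le (CC a)).2 (fun g hg => ?_) hb)
  obtain ⟨Q, hQ⟩ := (PE.isPGroup hg).exists_le_sylow
  exact mem_CC.2 (comm_of_pgroup hχ hd hdp hf Q.2 (Core.pCore_le_sylow Q ha) (hQ (mem_zpowers g)))

theorem exists_tw (hψ : IsIrrCharacter G ψ) (hw : ψ 1 = w) (hwp : w < p) :
    ∃ l : G →* ℂˣ, (∀ b, PE p b → b ∈ charCenter ψ → ψ b = w * l b) ∧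
      ∃ N : ℕ, ∀ g, l g ^ p ^ N = 1 := by
  obtain ⟨ν, hν⟩ := CharDeep.exists_hom_detChar ψ
  have hψ' := isCharacter_of_isIrr hψ
  have h0 := irr_one_ne_zero hψ
  have hw0 : w ≠ 0 := by rintro rfl; exact h0 (by simpa using hw)
  obtain ⟨k, -, hk⟩ := Nat.exists_mul_mod_eq_of_coprime (n := w * ordCompl[p] (Nat.card G))
    (k := p ^ (Nat.card G).factorization p) 1 (Nat.Coprime.pow_right _ (Nat.Coprime.mul_left
      (Nat.coprime_of_lt_prime hw0 hwp hp.out).symm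
      (Nat.coprime_ordCompl hp.out Nat.card_pos.ne').symm)) (pow_ne_zero _ hp.out.ne_zero)
  refine ⟨ν ^ (ordCompl[p] (Nat.card G) * k), fun b hb hb' => ?_, (Nat.card G).factorization p,
    fun g => ?_⟩
  · have h1 := (mem_charCenter hψ').1 hb'
    have h2 : ∀ i : ℕ, ψ (b ^ i) = (ψ b / ψ 1) ^ i * ψ 1 := fun i => by
      induction i with
      | zero => simp
      | succ i ih => rw [pow_succ', char_mul_of_norm_eq hψ' h1, ih, pow_succ', mul_assoc]
    have h3 : (ψ b / ψ 1) ^ p ^ (Nat.card G).factorization p = 1 :=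
      mul_right_cancel₀ h0 (by rw [← h2, hb.pow_fact, one_mul])
    rw [MonoidHom.pow_apply, Units.val_pow_eq_pow_val, ← hν, detChar_of_norm_eq hψ' h1,
      deg_eq_of_eq hw, ← pow_mul, ← mul_assoc, pow_eq_pow_mod _ h3, hk, ← pow_eq_pow_mod _ h3,
      pow_one, ← hw, mul_div_cancel₀ _ h0]
  · rw [MonoidHom.pow_apply, ← pow_mul, mul_right_comm, mul_comm (ordCompl[p] _),
      Nat.ordProj_mul_ordCompl_eq_self, pow_mul, ← map_pow, pow_card_eq_one', map_one, one_pow]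

theorem tw (hG : Gp p G = ⊤) (hψ : IsIrrCharacter G ψ) (hw : ψ 1 = w) (hwp : w + 2 ≤ p)
    {B : Subgroup G} (hB : B ≤ charCenter ψ) (hsq : ¬ p ^ 2 ∣ B.index) (l : G →* ℂˣ)
    (hl : ∀ b, PE p b → b ∈ charCenter ψ → ψ b = w * l b) (hx : PE p x) (hx' : x ∉ charCenter ψ) :
    p ≤ 2 * w + 1 ∧ (∀ μ, em ψ x μ ≤ 1) ∧ (2 * w + 1 = p → em ψ x (l x) = 0) := by
  have hψc := isCharacter_of_isIrr hψ
  have h1 := CharDeep.isIrr_linear_mul l⁻¹ hψ
  set ψ' : G → ℂ := fun g => (l⁻¹ g : ℂˣ) * ψ g with hψ'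
  have h1c := isCharacter_of_isIrr h1
  have h2 : ψ' 1 = w := by simp [hψ', hw]
  have hn : ∀ g, ‖ψ' g‖ = ‖ψ g‖ := fun g => by
    rw [hψ', norm_mul, Complex.norm_eq_one_of_pow_eq_one (n := Nat.card G) (by
      rw [← Units.val_pow_eq_pow_val, ← map_pow, pow_card_eq_one', map_one, Units.val_one])
      Nat.card_pos.ne', one_mul]
  have h3 := isIrr_defl h1 le_rfl
  have h3c := isCharacter_of_isIrr h3
  have h4 : ∀ g : G, (g : G ⧸ cker ψ') ∈ center _ → g ∈ charCenter ψ := fun g hg => by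
    have := norm_irr_of_mem_center h3 hg
    rwa [defl_one h1c le_rfl, defl_mk h1c le_rfl, hn, hn, ← mem_charCenter hψc] at this
  have h5 : ¬ p ^ 2 ∣ Nat.card (G ⧸ cker ψ') := fun h => by
    let f := QuotientGroup.mk' (cker ψ')
    rw [← (B.map f).card_mul_index] at h
    refine hsq (((Nat.Coprime.pow_left 2 (hp.out.coprime_iff_not_dvd.2
      fun h6 => ?_)).dvd_of_dvd_mul_left h).trans
      (B.index_map_dvd (QuotientGroup.mk'_surjective _)))
    obtain ⟨⟨_, b, hb, rfl⟩, h7⟩ := exists_prime_orderOf_dvd_card' p h6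
    have h8 : f b ^ ordCompl[p] (Nat.card G) = 1 := by
      rw [← map_pow]
      refine (QuotientGroup.eq_one_iff _).2 ((mem_cker h1c).2 ?_)
      rw [h2, hψ']
      simp only
      rw [hl _ (pe_pow b) (hB (pow_mem hb _)), MonoidHom.inv_apply, mul_left_comm, Units.inv_mul,
        mul_one]
    rw [← orderOf_coe] at h7
    exact Nat.not_dvd_ordCompl hp.out Nat.card_pos.ne' (h7 ▸ orderOf_dvd_of_pow_eq_one h8)
  have h6 : (x : G ⧸ cker ψ') ≠ 1 := fun h => hx' (h4 x (h ▸ one_mem _))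
  have hs : Syl p (x : G ⧸ cker ψ') :=
    ⟨hp.out, (hx.map (QuotientGroup.mk' _)).orderOf_eq h6 h5, h5⟩
  have h7 : ¬ (zpowers (x : G ⧸ cker ψ')).Normal := fun h => by
    have h8 := eq_top_of_pe hG (H := (CC (x : G ⧸ cker ψ')).comap (QuotientGroup.mk' _))
      fun g hg => zpowers_le_CC _ (hs.mem_zpowers_of_mem_NN
        ((normalizer_eq_top_iff.2 h).ge (mem_top _)) (by
          by_cases h9 : QuotientGroup.mk' (cker ψ') g = 1
          · rw [h9, one_pow]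
          · rw [← (hg.map _).orderOf_eq h9 h5, pow_orderOf_eq_one]))
    refine hx' (h4 x (mem_center_iff.2 fun q => ?_))
    obtain ⟨g, rfl⟩ := QuotientGroup.mk'_surjective _ q
    exact (mem_CC.1 (mem_comap.1 (h8 ▸ mem_top g))).eq.symm
  obtain ⟨a1, a2, a3⟩ := f1 hs h7 h3 ((defl_one h1c le_rfl).trans h2) hwp
    ((cker_eq_bot_iff h3c).1 (cker_defl_cker h1c))
  have h9 : ∀ μ, em ψ x μ = em (defl (cker ψ') ψ') x ((l⁻¹ x : ℂˣ) * μ) := fun μ => by
    rw [← em_mul_hom hψc l⁻¹, ← hψ']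
    refine Eq.trans ?_ (em_comp (QuotientGroup.mk' (cker ψ')) h3c x _)
    exact congrArg (em · x _) (funext fun g => (defl_mk h1c le_rfl g).symm)
  refine ⟨a1, fun μ => h9 μ ▸ a2 _, fun h => ?_⟩
  rw [h9, MonoidHom.inv_apply, Units.inv_mul, a3 h]

theorem str0 (hG : Gp p G = ⊤) (hχ : IsCharacter G χ) (hd : χ 1 = d) (hdp : d + 2 ≤ p)
    (hf : ∀ g, χ g = χ 1 → g = 1)
    (hB : ∀ η, IsIrrCharacter G η → charDegree η ≤ d → ∃ B ≤ charCenter η, ¬ p ^ 2 ∣ B.index)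
    (hna : ∃ a b : G, ¬ Commute a b) :
    ∃ (ψ φ : G → ℂ) (w : ℕ), IsIrrCharacter G ψ ∧ IsCharacter G φ ∧ χ = ψ + φ ∧ ψ 1 = w ∧
      commutator G ≤ cker φ ∧ charCenter ψ = center G ∧ p ≤ 2 * w + 1 ∧
      ∀ x, PE p x → x ∉ center G → (∀ μ, em ψ x μ ≤ 1) ∧ (2 * w + 1 = p → ∀ l : G →* ℂˣ,
        (∀ b, PE p b → b ∈ center G → ψ b = w * l b) → em ψ x (l x) = 0) := by
  classical
  have := Fintype.ofFinite G
  have key : ∀ η, IsIrrCharacter G η → charDegree η ≠ 1 → charDegree η ≤ d →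
      p ≤ 2 * charDegree η + 1 := fun η hη h1 h2 => by
    have h3 := (deg_cast (isCharacter_of_isIrr hη)).symm
    obtain ⟨l, hl, -⟩ := exists_tw (p := p) hη h3 (by omega)
    obtain ⟨x, hx, hx'⟩ : ∃ x, PE p x ∧ x ∉ charCenter η := by
      by_contra! h
      refine h1 ((deg_eq_one_iff_commutator_le hη).2 (commutator_le.2 fun a _ b _ => ?_))
      rw [mem_cker (isCharacter_of_isIrr hη), ← mem_charKer (isCharacter_of_isIrr hη)]
      exact commutator_mem_charKer (isClassFunction_of_isIrr hη)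
        (eq_top_of_pe hG h ▸ mem_top a) b
    obtain ⟨B, hB, hsq⟩ := hB η hη h2
    exact (tw hG hη h3 (by omega) hB hsq l hl hx hx').1
  obtain ⟨ψ, hψ, h1, h2⟩ : ∃ ψ, IsIrrCharacter G ψ ∧ classInner χ ψ ≠ 0 ∧ charDegree ψ ≠ 1 := by
    by_contra! h
    obtain ⟨a, b, hab⟩ := hna
    exact hab (comm_of_faithful hχ ((cker_eq_bot_iff hχ).2 hf) h a b)
  have hψc := isCharacter_of_isIrr hψ
  have hφ := isCharacter_sub_of_inner_ne_zero hχ hψ h1
  have hw := (deg_cast hψc).symm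
  have h3 : charDegree ψ + charDegree (χ - ψ) = d := by
    rw [← deg_add hψc hφ, add_sub_cancel, deg_eq_of_eq hd]
  have h4 := key ψ hψ h2 (by omega)
  have h5 : commutator G ≤ cker (χ - ψ) := fun g hg => mem_cker_of_forall hφ fun η hη h => by
    refine (deg_eq_one_iff_commutator_le hη).1 (by_contra fun h6 => ?_) hg
    have h7 := deg_le_of_inner_ne_zero hφ hη h
    have := key η hη h6 (by omega)
    omega
  have h6 : charCenter ψ = center G := by
    refine le_antisymm (fun g hg => mem_center_iff.2 fun h => ?_) (center_le_charCenter hψ)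
    refine (commutatorElement_eq_one_iff_mul_comm.1 (hf _ ?_)).symm
    have h7 := (mem_charKer hψc).1 (commutator_mem_charKer (isClassFunction_of_isIrr hψ) hg h)
    have h8 := (mem_cker hφ).1 (h5 (commutator_mem_commutator (mem_top g) (mem_top h)))
    simp only [Pi.sub_apply] at h8
    linear_combination h7 + h8
  refine ⟨ψ, χ - ψ, _, hψ, hφ, by simp, hw, h5, h6, h4, fun x hx hx' => ?_⟩
  rw [← h6] at hx' ⊢
  obtain ⟨B, hB, hsq⟩ := hB ψ hψ (by omega)
  obtain ⟨l, hl, -⟩ := exists_tw (p := p) hψ hw (by omega)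
  exact ⟨(tw hG hψ hw (by omega) hB hsq l hl hx hx').2.1,
    fun h l hl => (tw hG hψ hw (by omega) hB hsq l hl hx hx').2.2 h⟩

theorem pCore_le_center (hG : Gp p G = ⊤) (hχ : IsCharacter G χ) (hd : χ 1 = d) (hdp : d < p)
    (hf : ∀ g, χ g = χ 1 → g = 1) : pCore p G ≤ center G := fun _ ha =>
  mem_center_iff.2 fun g => (commute_pCore hχ hd hdp hf ha (hG ▸ mem_top g)).eq.symm

theorem str (hG : Gp p G = ⊤) (hχ : IsCharacter G χ) (hd : χ 1 = d) (hdp : d + 2 ≤ p)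
    (hf : ∀ g, χ g = χ 1 → g = 1) (hsq : ¬ p ^ 2 ∣ (pCore p G).index)
    (hna : ∃ a b : G, ¬ Commute a b) :
    ∃ (ψ φ : G → ℂ) (w : ℕ), IsIrrCharacter G ψ ∧ IsCharacter G φ ∧ χ = ψ + φ ∧ ψ 1 = w ∧
      commutator G ≤ cker φ ∧ charCenter ψ = center G ∧ p ≤ 2 * w + 1 ∧
      ∀ x, PE p x → x ∉ center G → (∀ μ, em ψ x μ ≤ 1) ∧ (2 * w + 1 = p → ∀ l : G →* ℂˣ,
        (∀ b, PE p b → b ∈ center G → ψ b = w * l b) → em ψ x (l x) = 0) :=
  str0 hG hχ hd hdp hf (fun _ hη _ => ⟨_, (pCore_le_center hG hχ hd (by omega) hf).trans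
    (center_le_charCenter hη), hsq⟩) hna

end CfsgLib.Blau
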