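import Cfsg.Agent.Lib.Blau.Em

/-!
Package VAL. A faithful irreducible character of degree `d ≤ p - 2`, Sylow subgroup `⟨x⟩` of order
`p`, not normal.

Use `LowDeg.small` with a primitive `ω` (`exists_prim`): `χ = D.Y a` and
(A) `χ = Ind (lt ω a θ)` on `CC x`, so `d = ee x * θ 1`; or (B) `θ 1 = 1`, `d + ee x = p`, `ε = -1`.
(A) with `d + ee x = p` is impossible (see `key` in the proof of `LowD2.main`), so in (A)
`caseA` gives `2 d + 1 = p`, `bound` gives `ee x = d`, hence `θ 1 = 1`. In (B): `2 d + 1 ≤ p` is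
impossible by `bound` (`ee x = d`, `2 d + 1 = p = d + ee x`).
Values: `Ind_lt_pow`: `I i := Ind (..) (x ^ i.val) = |CC|⁻¹ θ 1 ∑ g ∈ NN, ω (a * nu g * i)`;
(A) `χ (x ^ i) = I i` for all `i`; (B) `χ (x ^ i) = - I i` for `i ≠ 0` (`GenData.Y_val`,
`pow_mem_AA`), and `χ 1 = p - I 0` (`card_NN`).
`f1`: if `μ ^ p ≠ 1` use `em_eq_zero`; else `μ = ω b` (`prim_exists`), `em_cast` with `M = p` and
`AddChar.sum_mulShift` give `em * |CC| = c b` in (A) and `em * |CC| = |CC| - c b` in (B), where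
`c b = #{g ∈ NN | a * nu g = b}`; `c 0 = 0` (`nu_ne_zero`), `c b ≤ |CC|` (two elements of the
fibre differ by an element of `CC`: `nu_mul`, `nu_eq_one_iff`).
`valB`: `KK = center`, `2 ee < p` as in `LowD2.main`. The sum: `∑ i : ZMod p, I i * conj (I i) =
|CC|⁻² p #{(g, h) ∈ NN² | nu g = nu h} = p ee`, and the term `i = 0` is `ee ^ 2` (`sum_zmod`).
Uniqueness: `χ'` agrees with `D.Y a` on `AA p x` (`exists_val_mul`, `pi_ne_zero_iff`), so
`dc_congr`: `dc θ b χ' = dc θ b (D.Y a)` is `-ε ≠ 0` at `b = a` and `0` at some `b ∉ a E`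
(`EE θ ≠ ⊤` as `2 |E| < p`); so `χ' ∉ D.X` (`X_dc`), not "other" (`other_dc`), and `χ' = D.Y a'`
forces `a'⁻¹ a ∈ E` (`Y_dc'`), `Y_eq_iff`.
-/

set_option autoImplicit false

namespace CfsgLib.Blau

open Cfsg CfsgLib.Char CfsgLib.ChDeg CfsgLib.DefectOne CfsgLib.DefectOne.B43 CfsgLib.Tuan
  CfsgLib.LowDeg CfsgLib.LowD2 CfsgLib.FewSyl CfsgLib.ChTab Subgroup
open scoped ComplexConjugate MatrixGroups commutatorElement

variable {G : Type*} [Group G] [Finite G] {p : ℕ} [hp : Fact p.Prime] {x : G} {χ : G → ℂ} {d : ℕ}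

theorem val_sum_range (f : ℕ → ℂ) : ∑ i ∈ Finset.range p, f i = ∑ i : ZMod p, f i.val := by
  refine (Finset.sum_bij (fun i _ => i.val) (fun i _ => Finset.mem_range.2 (ZMod.val_lt i))
    (fun i _ j _ e => ZMod.val_injective p e)
    (fun k hk => ⟨k, Finset.mem_univ _, ZMod.val_cast_of_lt (Finset.mem_range.1 hk)⟩)
    fun _ _ => rfl).symm

open scoped _root_.Classical in
/-- the number of `g ∈ NN x` with `a * nu g = b` -/
noncomputable def valC (hs : Syl p x) (a b : ZMod p) : ℕ :=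
  ((PF.els (NN x : Set G)).filter fun g => a * hs.nu g = b).card

theorem valC_nu (hs : Syl p x) (a : (ZMod p)ˣ) {h : G} (hh : h ∈ NN x) :
    valC hs a (a * hs.nu h) = Nat.card (CC x) := by
  classical
  rw [← PF.card_els_subgroup, valC]
  refine (Finset.card_bij (fun c _ => h * c) (fun c hc => ?_) (fun c _ c' _ e => mul_left_cancel e)
    fun g hg => ?_).symm
  · have hc' : c ∈ CC x := PF.mem_els.1 hc
    have hc2 := CC_le_NN x hc'
    simp only [Finset.mem_filter, PF.mem_els, SetLike.mem_coe]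
    exact ⟨mul_mem hh hc2, by rw [hs.nu_mul hh hc2, (hs.nu_eq_one_iff hc2).2 hc', mul_one]⟩
  · simp only [Finset.mem_filter, PF.mem_els, SetLike.mem_coe] at hg
    have h1 : h⁻¹ * g ∈ NN x := mul_mem (inv_mem hh) hg.1
    refine ⟨h⁻¹ * g, PF.mem_els.2 ((hs.nu_eq_one_iff h1).1 ?_), mul_inv_cancel_left h g⟩
    have h2 := hs.nu_mul hh h1
    rw [mul_inv_cancel_left, mul_left_cancel₀ a.ne_zero hg.2] at h2
    exact (mul_eq_left₀ (hs.nu_ne_zero hh)).1 h2.symm

theorem valC_le (hs : Syl p x) (a : (ZMod p)ˣ) (b : ZMod p) : valC hs a b ≤ Nat.card (CC x) := by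
  classical
  rcases Nat.eq_zero_or_pos (valC hs a b) with h | h
  · omega
  · obtain ⟨g, hg⟩ := Finset.card_pos.1 h
    simp only [Finset.mem_filter, PF.mem_els, SetLike.mem_coe] at hg
    rw [← hg.2, valC_nu hs a hg.1]

theorem valC_zero (hs : Syl p x) (a : (ZMod p)ˣ) : valC hs a 0 = 0 := by
  classical
  refine Finset.card_eq_zero.2 (Finset.filter_eq_empty_iff.2 fun g hg => ?_)
  exact mul_ne_zero a.ne_zero (hs.nu_ne_zero (PF.mem_els.1 hg))

/-- the value of the induced character at `x ^ i` -/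
noncomputable def valI (hs : Syl p x) (ω : AddChar (ZMod p) ℂ) (a i : ZMod p) : ℂ :=
  (Nat.card (CC x) : ℂ)⁻¹ * ∑ g ∈ PF.els (NN x : Set G), ω (a * hs.nu g * i)

theorem valI_zero (hs : Syl p x) (ω : AddChar (ZMod p) ℂ) (a : ZMod p) : valI hs ω a 0 = ee x := by
  have h0 : (Nat.card (CC x) : ℂ) ≠ 0 := Nat.cast_ne_zero.2 Nat.card_pos.ne'
  simp only [valI, mul_zero, AddChar.map_zero_eq_one, Finset.sum_const, nsmul_eq_mul, mul_one,
    PF.card_els_subgroup, card_NN, Nat.cast_mul]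
  field_simp

theorem val_fourier (hs : Syl p x) {ω : AddChar (ZMod p) ℂ} (hω : ω.IsPrimitive) (a b : ZMod p) :
    (Nat.card (CC x) : ℂ) * ∑ i : ZMod p, ω (-(b * i)) * valI hs ω a i = p * valC hs a b := by
  classical
  have h0 : (Nat.card (CC x) : ℂ) ≠ 0 := Nat.cast_ne_zero.2 Nat.card_pos.ne'
  have h1 : ∀ i : ZMod p, (Nat.card (CC x) : ℂ) * (ω (-(b * i)) * valI hs ω a i) =
      ∑ g ∈ PF.els (NN x : Set G), ω (i * (a * hs.nu g - b)) := fun i => by
    rw [valI, mul_left_comm, mul_inv_cancel_left₀ h0, Finset.mul_sum]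
    refine Finset.sum_congr rfl fun g _ => ?_
    rw [← AddChar.map_add_eq_mul]
    congr 1
    ring
  rw [Finset.mul_sum, Finset.sum_congr rfl fun i _ => h1 i, Finset.sum_comm,
    Finset.sum_congr rfl fun g _ => AddChar.sum_mulShift (a * hs.nu g - b) hω, valC,
    Finset.card_filter, Nat.cast_sum, Finset.mul_sum]
  refine Finset.sum_congr rfl fun g _ => ?_
  simp only [sub_eq_zero, ZMod.card]
  split_ifs <;> simp

theorem val_norm (hs : Syl p x) {ω : AddChar (ZMod p) ℂ} (hω : ω.IsPrimitive) (a : (ZMod p)ˣ) :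
    ∑ i : ZMod p, valI hs ω a i * conj (valI hs ω a i) = p * ee x := by
  have h0 : (Nat.card (CC x) : ℂ) ≠ 0 := Nat.cast_ne_zero.2 Nat.card_pos.ne'
  have h1 : ∀ i : ZMod p, valI hs ω a i * conj (valI hs ω a i) = (Nat.card (CC x) : ℂ)⁻¹ *
      ∑ g ∈ PF.els (NN x : Set G), ω (-(a * hs.nu g * i)) * valI hs ω a i := fun i => by
    rw [← Finset.sum_mul, mul_comm, ← mul_assoc]
    congr 1
    rw [valI, map_mul, map_sum, map_inv₀, map_natCast]
    simp only [AddChar.map_neg_eq_conj]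
  have h2 : ∀ g ∈ PF.els (NN x : Set G),
      ∑ i : ZMod p, ω (-(a * hs.nu g * i)) * valI hs ω a i = p := fun g hg => by
    have := val_fourier hs hω a (a * hs.nu g)
    rw [valC_nu hs a (PF.mem_els.1 hg), mul_comm (p : ℂ)] at this
    exact mul_left_cancel₀ h0 this
  rw [Finset.sum_congr rfl fun i _ => h1 i, ← Finset.mul_sum, Finset.sum_comm,
    Finset.sum_congr rfl h2, Finset.sum_const, nsmul_eq_mul, PF.card_els_subgroup, card_NN,
    Nat.cast_mul]
  field_simp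

theorem val_data (hs : Syl p x) (hnn : ¬ (zpowers x).Normal) (hχ : IsIrrCharacter G χ)
    (hd : χ 1 = d) (hdp : d + 2 ≤ p) (hf : ∀ g, χ g = χ 1 → g = 1) {ω : AddChar (ZMod p) ℂ}
    (hω : ω.IsPrimitive) : ∃ (θ : G → ℂ) (a : (ZMod p)ˣ) (D : GenData hs ω ⊤ θ), Tr x θ ∧
      D.Y a = χ ∧ θ 1 = 1 ∧ 2 * Nat.card (hs.EE θ) < p ∧
      ((2 * d + 1 = p ∧ d + ee x ≠ p ∧ ∀ i : ZMod p, χ (x ^ i.val) = valI hs ω a i) ∨
        (d + ee x = p ∧ 2 * ee x < p ∧ (∀ y ∈ hs.KK, χ y = d * θ y) ∧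
          ∀ i : (ZMod p)ˣ, χ (x ^ (i : ZMod p).val) = -valI hs ω a i)) := by
  have hχ' := PF.isIrr_top.2 hχ
  obtain ⟨θ, a, D, hθ, h3, h4, h5 | ⟨h5, h6, hB, h7, h8⟩⟩ :=
    small hs hω hχ' hd hdp fun h => hs.ne_one (hf x h)
  · obtain ⟨t, ht0, ht⟩ := hθ.1.one_pos
    have h6 := h5 1 (one_mem _)
    rw [hd, PF.Ind_apply_one (CC_le_NN x), hs.lt_one, ht] at h6
    have h6' : d = ee x * t := by exact_mod_cast h6
    have hB : d + ee x ≠ p := fun hB => by
      have h7 : ee x ∣ d := ⟨t, h6'⟩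
      have h8 := Nat.dvd_sub (hB ▸ dvd_add h7 dvd_rfl) (ee_dvd hs)
      rw [show p - (p - 1) = 1 by omega, Nat.dvd_one] at h8
      omega
    have h1 := caseA hs hnn hχ' hd hdp hf hB
    have h2 := (bound hs hnn (isCharacter_of_isIrr hχ) hd h1.le hf).2.1
    have he := ee_pos x
    obtain rfl : t = 1 := by
      rw [h2] at h6' he
      exact (Nat.mul_eq_left he.ne').1 h6'.symm
    have hθ1 : θ 1 = 1 := by simpa using ht
    refine ⟨θ, a, D, hθ, h3, hθ1, h4, Or.inl ⟨h1, hB, fun i => ?_⟩⟩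
    rw [h5 _ (pow_mem (self_mem_CC x) _), Ind_lt_pow hs hθ, hθ1, mul_one, valI]
  · have h9 := hs.card_EE_mul hθ
    rw [h6, Finset.card_singleton, mul_one] at h9
    refine ⟨θ, a, D, hθ, h3, h5, h4, Or.inr ⟨hB, by rwa [h9] at h4, h8, fun i => ?_⟩⟩
    rw [← h3, D.Y_val hω le_top hθ a (hs.pow_mem_AA i), Ind_lt_pow hs hθ, h5, mul_one, valI, h7]
    simp

theorem f1 (hs : Syl p x) (hnn : ¬ (zpowers x).Normal) (hχ : IsIrrCharacter G χ) (hd : χ 1 = d)
    (hdp : d + 2 ≤ p) (hf : ∀ g, χ g = χ 1 → g = 1) :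
    p ≤ 2 * d + 1 ∧ (∀ μ, em χ x μ ≤ 1) ∧ (2 * d + 1 = p → em χ x 1 = 0) := by
  obtain ⟨ω, hω⟩ := exists_prim p
  have hχ' := isCharacter_of_isIrr hχ
  have h0 : (Nat.card (CC x) : ℂ) ≠ 0 := Nat.cast_ne_zero.2 Nat.card_pos.ne'
  have hp0 : (p : ℂ) ≠ 0 := Nat.cast_ne_zero.2 hp.out.ne_zero
  have hc : 0 < Nat.card (CC x) := Nat.card_pos
  have key : ∀ b : ZMod p, (p : ℂ) * em χ x (ω b) = ∑ i : ZMod p, ω (-(b * i)) * χ (x ^ i.val) :=
    fun b => by
      rw [em_cast hχ' hp.out.ne_zero hs.pow_p (by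
        rw [← AddChar.map_nsmul_eq_pow, nsmul_eq_mul, ZMod.natCast_self, zero_mul,
          AddChar.map_zero_eq_one]), val_sum_range]
      refine Finset.sum_congr rfl fun i _ => ?_
      rw [← AddChar.map_neg_eq_inv, ← AddChar.map_nsmul_eq_pow, nsmul_eq_mul, ZMod.natCast_zmod_val]
      congr 2
      ring
  have red : (∀ b, em χ x (ω b) ≤ 1) → ∀ μ, em χ x μ ≤ 1 := fun h μ => by
    by_cases hμ : μ ^ p = 1
    · obtain ⟨b, rfl⟩ := prim_exists hω hμ
      exact h b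
    · rw [em_eq_zero hχ' hs.pow_p hμ]
      omega
  obtain ⟨θ, a, D, -, -, -, -, ⟨h1, -, h2⟩ | ⟨h1, h2, -, h3⟩⟩ := val_data hs hnn hχ hd hdp hf hω
  · have k2 : ∀ b, Nat.card (CC x) * em χ x (ω b) = valC hs a b := fun b => by
      have h3 := val_fourier hs hω a b
      rw [← Finset.sum_congr rfl fun i _ => congrArg (ω (-(b * i)) * ·) (h2 i), ← key,
        mul_left_comm] at h3
      exact_mod_cast mul_left_cancel₀ hp0 h3
    refine ⟨h1.ge, red fun b => ?_, fun _ => ?_⟩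
    · have h3 := valC_le hs a b
      rw [← k2] at h3
      exact Nat.le_of_mul_le_mul_left (by simpa using h3) hc
    · have h3 := k2 0
      rw [valC_zero, AddChar.map_zero_eq_one] at h3
      exact (mul_eq_zero.1 h3).resolve_left hc.ne'
  · refine ⟨by omega, red fun b => ?_, fun h => by omega⟩
    have h4 := val_fourier hs hω a b
    have h5 := key b
    rw [sum_zmod] at h4 h5
    simp only [h3, mul_neg, Finset.sum_neg_distrib, mul_zero, neg_zero, AddChar.map_zero_eq_one, one_mul,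
      ZMod.val_zero, pow_zero, hd, valI_zero] at h4 h5
    have h6 : (d : ℂ) + ee x = p := by exact_mod_cast h1
    have h7 : (p : ℂ) * (Nat.card (CC x) * em χ x (ω b) + valC hs a b) = p * Nat.card (CC x) := by
      linear_combination (Nat.card (CC x) : ℂ) * h5 - h4 + (Nat.card (CC x) : ℂ) * h6
    have h8 : Nat.card (CC x) * em χ x (ω b) + valC hs a b = Nat.card (CC x) := by
      exact_mod_cast mul_left_cancel₀ hp0 h7
    exact Nat.le_of_mul_le_mul_left (by omega) hc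

theorem valB (hs : Syl p x) (hnn : ¬ (zpowers x).Normal) (hχ : IsIrrCharacter G χ) (hd : χ 1 = d)
    (hdp : d + 2 ≤ p) (hf : ∀ g, χ g = χ 1 → g = 1) (hB : d + ee x = p) :
    hs.KK = center G ∧ 2 * ee x < p ∧
      ∑ j : (ZMod p)ˣ, χ (x ^ (j : ZMod p).val) * conj (χ (x ^ (j : ZMod p).val)) =
        p * ee x - (ee x : ℂ) ^ 2 ∧
      ∀ χ', IsIrrCharacter G χ' → (∀ z ∈ center G, ∀ i : ℕ, χ' (x ^ i * z) = χ (x ^ i * z)) →
        χ' = χ := by
  obtain ⟨ω, hω⟩ := exists_prim p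
  have hχ' := PF.isIrr_top.2 hχ
  obtain ⟨θ, a, D, hθ, rfl, h3, hE, ⟨-, h1, -⟩ | ⟨-, h2, h5, h6⟩⟩ := val_data hs hnn hχ hd hdp hf hω
  · exact absurd hB h1
  have hK : hs.KK = center G := by
    refine le_antisymm (fun y hy => mem_center_of_norm hχ'.isChar hf ?_)
      (center_le_KK hs (by omega))
    rw [h5 y hy, norm_mul, PF.IsLin.norm_eq ⟨hθ.1, h3⟩ hy.1, mul_one, hd]
  refine ⟨hK, h2, ?_, fun χ' hχ'' h => ?_⟩
  · have h7 := val_norm hs hω a
    rw [sum_zmod, valI_zero, map_natCast] at h7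
    simp only [h6, map_neg, neg_mul_neg]
    linear_combination h7
  · have h7 : ∀ b, hs.dc ω θ b χ' = hs.dc ω θ b (D.Y a) := fun b => hs.dc_congr (fun c hc => by
      obtain ⟨y, hy, e⟩ := hs.exists_val_mul hc.1
      rw [e]
      exact h y (hK ▸ hy) _) θ b
    have h8 : hs.dc ω θ a χ' = -D.ε := by
      rw [h7, D.Y_dc a a (by rw [inv_mul_cancel]; exact one_mem _)]
    have h9 : hs.dc ω θ a χ' ≠ 0 := h8 ▸ neg_ne_zero.2 D.ε_ne_zero
    obtain ⟨u, hu⟩ : ∃ u, u ∉ hs.EE θ := by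
      by_contra hn
      have h10 : hs.EE θ = ⊤ := eq_top_iff.2 fun u _ => by
        by_contra h11
        exact hn ⟨u, h11⟩
      rw [h10, card_top, Nat.card_eq_fintype_card, ZMod.card_units] at hE
      omega
    have hX : χ' ∉ D.X := fun hX => by
      have h10 := D.X_dc χ' hX (a * u)
      rw [h7, D.Y_dc' a (a * u) (by rwa [inv_mul_cancel_left])] at h10
      exact D.δ_ne_zero hX h10.symm
    by_cases hY : ∃ a', D.Y a' = χ'
    · obtain ⟨a', rfl⟩ := hY
      by_contra hne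
      exact h9 (D.Y_dc' a' a fun h10 => hne ((D.Y_eq_iff a' a).2 h10))
    · exact absurd (D.other_dc χ' (PF.isIrr_top.2 hχ'') hX (fun a' e => hY ⟨a', e⟩) a) h9

end CfsgLib.Blau
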